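import Groth.Agent.MiscFlat6.InvDual
import Groth.Agent.HilbPolyLib.Twist
import Groth.Agent.CohCmpLib.TrivFibre

/-!
The monoid of isomorphism classes of modules under tensor product.
-/

set_option autoImplicit false
set_option maxRecDepth 8000

noncomputable section

universe u

open CategoryTheory CategoryTheory.Limits AlgebraicGeometry

namespace CubeConsLib

/-- Isomorphism classes of modules. -/
def IsoCls (X : Scheme.{u}) : Type (u + 1) := Quotient (isIsomorphicSetoid X.Modules)

variable {X Y Z : Scheme.{u}}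

/-- The class of a module. -/
def cl (M : X.Modules) : IsoCls X := Quotient.mk _ M

theorem cl_eq_iff {M N : X.Modules} : cl M = cl N ↔ Nonempty (M ≅ N) :=
  ⟨fun h => Quotient.exact h, fun h => Quotient.sound h⟩

instance : Mul (IsoCls X) :=
  ⟨Quotient.map₂ CohB1.tensorMod fun _ _ ⟨a⟩ _ _ ⟨b⟩ =>
    ⟨HilbPolyLib.congrLeft a _ ≪≫ HilbPolyLib.congrRight _ b⟩⟩

instance : One (IsoCls X) := ⟨cl (Coh.structureModule X)⟩

theorem cl_tensor (M N : X.Modules) : cl (CohB1.tensorMod M N) = cl M * cl N := rfl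

instance : CommMonoid (IsoCls X) where
  mul_assoc := Quotient.ind fun a => Quotient.ind fun b => Quotient.ind fun c =>
    Quotient.sound ⟨HilbPolyLib.assocIso a b c⟩
  one_mul := Quotient.ind fun a => Quotient.sound ⟨HilbPolyLib.unitLeft a⟩
  mul_one := Quotient.ind fun a => Quotient.sound ⟨HilbPolyLib.swapIso _ _ ≪≫ HilbPolyLib.unitLeft a⟩
  mul_comm := Quotient.ind fun a => Quotient.ind fun b => Quotient.sound ⟨HilbPolyLib.swapIso a b⟩

theorem cl_eq_one_iff {M : X.Modules} : cl M = 1 ↔ Nonempty (M ≅ Coh.structureModule X) := cl_eq_iff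

/-- Pullback of classes. -/
def pull (g : Y ⟶ X) : IsoCls X →* IsoCls Y where
  toFun := Quotient.map (Scheme.Modules.pullback g).obj fun _ _ ⟨a⟩ => ⟨(Scheme.Modules.pullback g).mapIso a⟩
  map_one' := Quotient.sound ⟨KFlatLib.pullUnitIso g⟩
  map_mul' := Quotient.ind fun a => Quotient.ind fun b => Quotient.sound ⟨by
    have := KFlatLib.isIso_pullθ g a b
    exact @asIso _ _ _ _ (KFlatLib.pullθ g a b) this⟩

theorem pull_cl (g : Y ⟶ X) (M : X.Modules) : pull g (cl M) = cl ((Scheme.Modules.pullback g).obj M) := rfl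

theorem pull_comp (h : Z ⟶ Y) (g : Y ⟶ X) (c : IsoCls X) : pull h (pull g c) = pull (h ≫ g) c := by
  induction c using Quotient.ind with
  | _ M => exact Quotient.sound ⟨(Scheme.Modules.pullbackComp h g).app M⟩

theorem exists_inverse {L : X.Modules} (hL : PicF.IsInvertible L) : ∃ d : IsoCls X, cl L * d = 1 :=
  ⟨cl (MiscFlat6.dual L), cl_eq_one_iff.2 (MiscFlat6.nonempty_dualIso hL)⟩

theorem pull_eq_one_of_factor [Subsingleton Y] [Nonempty Y] (h : Z ⟶ Y) (g : Y ⟶ X) {L : X.Modules}
    (hL : PicF.IsInvertible L) : pull (h ≫ g) (cl L) = 1 := by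
  rw [← pull_comp]
  have h1 : pull g (cl L) = 1 := cl_eq_one_iff.2 (CohCmpLib.nonempty_iso_structureModule_of_point
    ((CohCmpLib.invertible_iff_rank_one _).1 (AmpleDevLib.isInvertible_pb g hL)))
  rw [h1, map_one]

theorem isInvertible_tensor_dual {M N : X.Modules} (hM : PicF.IsInvertible M) (hN : PicF.IsInvertible N) :
    PicF.IsInvertible (CohB1.tensorMod M (MiscFlat6.dual N)) :=
  HilbPolyLib.isInvertible_tensor hM (MiscFlat6.dual_isInvertible hN)

end CubeConsLib
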