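import Groth.Agent.S19476
import Groth.Agent.CubeConsLib.IsoCls

/-!
The seesaw principle over a reduced Jacobson base.
-/

set_option autoImplicit false
set_option maxRecDepth 8000

noncomputable section

universe u

open CategoryTheory CategoryTheory.Limits AlgebraicGeometry

namespace CubeConsLib

theorem seesaw_closedPoints {X S : Scheme.{u}} (f : X ⟶ S) [IsProper f] [Flat f] [GeometricallyIntegral f]
    [IsLocallyNoetherian S] [IsReduced S] [JacobsonSpace S] {L M : X.Modules}
    (hL : PicF.IsInvertible L) (hM : PicF.IsInvertible M)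
    (h : ∀ y : S, IsClosed ({y} : Set S) →
      Nonempty ((Scheme.Modules.pullback (pullback.fst f (S.fromSpecResidueField y))).obj L ≅
        (Scheme.Modules.pullback (pullback.fst f (S.fromSpecResidueField y))).obj M)) :
    ∃ N : S.Modules, PicF.IsInvertible N ∧
      Nonempty (L ≅ CohB1.tensorMod M ((Scheme.Modules.pullback f).obj N)) := by
  let D := CohB1.tensorMod L (MiscFlat6.dual M)
  have hD : PicF.IsInvertible D := isInvertible_tensor_dual hL hM
  have hMd : cl M * cl (MiscFlat6.dual M) = 1 := cl_eq_one_iff.2 (MiscFlat6.nonempty_dualIso hM)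
  obtain ⟨Z, ι', hι, hZ⟩ := Groth.Agent.S19476.result f D ((CohCmpLib.invertible_iff_rank_one D).1 hD)
  have hmem : closedPoints S ⊆ Set.range ι' := by
    intro y hy
    obtain ⟨u', hu'⟩ := (hZ (Spec (S.residueField y)) (S.fromSpecResidueField y) inferInstance).2
      ⟨Coh.structureModule _, CohCmpLib.rank_one_structureModule _, by
        have e : pull (pullback.fst f (S.fromSpecResidueField y)) (cl D) = 1 := by
          rw [cl_tensor, map_mul, pull_cl, cl_eq_iff.2 (h y hy), ← pull_cl, ← map_mul, hMd, map_one]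
        rw [pull_cl, cl_eq_one_iff] at e
        exact ⟨e.some ≪≫ (KFlatLib.pullUnitIso _).symm⟩⟩
    refine ⟨u' (IsLocalRing.closedPoint _), ?_⟩
    rw [← Scheme.Hom.comp_apply, hu', Scheme.fromSpecResidueField_apply]
  have : Surjective ι' := ⟨fun y => by
    have hc := closure_minimal hmem ι'.isClosedEmbedding.isClosed_range
    rw [closure_closedPoints] at hc
    exact hc (Set.mem_univ y)⟩
  have : IsIso ι' := isIso_of_isClosedImmersion_of_surjective ι'
  obtain ⟨N, hN, ⟨e⟩⟩ := (hZ S (𝟙 S) ‹_›).1 ⟨inv ι', IsIso.inv_hom_id ι'⟩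
  refine ⟨N, (CohCmpLib.invertible_iff_rank_one N).2 hN, cl_eq_iff.1 ?_⟩
  let g : X ⟶ pullback f (𝟙 S) := pullback.lift (𝟙 X) f (by simp)
  have e' : cl D = cl ((Scheme.Modules.pullback f).obj N) := by
    have := congrArg (pull g) (cl_eq_iff.2 ⟨e⟩)
    rw [← pull_cl, ← pull_cl, pull_comp, pull_comp, pullback.lift_fst, pullback.lift_snd, pull_cl, pull_cl] at this
    rw [← this]
    exact (cl_eq_iff.2 ⟨(Scheme.Modules.pullbackId X).app D⟩).symm
  calc cl L = cl L * (cl M * cl (MiscFlat6.dual M)) := by rw [hMd, _root_.mul_one]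
    _ = cl M * (cl L * cl (MiscFlat6.dual M)) := mul_left_comm _ _ _
    _ = _ := by rw [← cl_tensor L, cl_tensor M, ← e']

theorem jacobsonSpace_of_field {k : Type u} [Field k] {Y : Scheme.{u}} (q : Y ⟶ Spec (CommRingCat.of k))
    [LocallyOfFiniteType q] : JacobsonSpace Y := LocallyOfFiniteType.jacobsonSpace q

end CubeConsLib
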