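import Groth.Agent.CubeConsLib.Defect2
import Groth.Agent.CubeConsLib.Seesaw
import Groth.Agent.AbSchLib.Flat
import Mathlib.AlgebraicGeometry.Sites.Fpqc

/-!
Classes algebraically equivalent to zero and the map to the dual.
-/

set_option autoImplicit false
set_option maxRecDepth 8000
set_option maxHeartbeats 1000000

noncomputable section

universe u

open CategoryTheory MonoidalCategory CartesianMonoidalCategory MonObj AlgebraicGeometry
open Limits (pullback)

namespace CubeConsLib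

/-- The class in `IsoCls` of a class in `PicF.Cl`. -/
def toI {X : Scheme.{u}} : PicF.Cl X → IsoCls X := Quot.lift cl fun _ _ e => cl_eq_iff.2 e

theorem toI_cl {X : Scheme.{u}} (L : X.Modules) : toI (PicF.cl L) = cl L := rfl

theorem pullCl_pullCl {X Y Z : Scheme.{u}} (h : Z ⟶ Y) (g : Y ⟶ X) (c : PicF.Cl X) :
    PicF.pullCl h (PicF.pullCl g c) = PicF.pullCl (h ≫ g) c := by
  induction c using Quot.ind with
  | _ L => exact Quot.sound ⟨(Scheme.Modules.pullbackComp h g).app L⟩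

theorem pullCl_id {X : Scheme.{u}} (c : PicF.Cl X) : PicF.pullCl (𝟙 X) c = c := by
  induction c using Quot.ind with
  | _ L => exact Quot.sound ⟨(Scheme.Modules.pullbackId X).app L⟩

theorem pullCl_eq_of_pullA {X Y : Scheme.{u}} (g g' : Y ⟶ X) {L : X.Modules} (hL : PicF.IsInvertible L)
    (h : pullA g (clA hL) = pullA g' (clA hL)) : PicF.pullCl g (PicF.cl L) = PicF.pullCl g' (PicF.cl L) := by
  rw [pullA_clA _ hL, pullA_clA _ hL, clA_eq_iff] at h
  exact Quot.sound h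

theorem clA_zero_of_trivialCl {X Y : Scheme.{u}} (g : Y ⟶ X) {L : X.Modules} (hL : PicF.IsInvertible L)
    (h : PicF.IsTrivialCl (PicF.pullCl g (PicF.cl L))) : pullA g (clA hL) = 0 := by
  rw [pullA_clA _ hL, ← clA_one, clA_eq_iff]
  exact cl_eq_iff.1 (congrArg toI h)

theorem hom_ext_fppf {S : Scheme.{u}} {A B : Over S} {R : Presieve B.left}
    (hR : R ∈ Scheme.fppfPrecoverage B.left) {g g' : B ⟶ A}
    (h : ∀ ⦃U : Scheme.{u}⦄ (u : U ⟶ B.left), R u → AbDual.ovrHom B u ≫ g = AbDual.ovrHom B u ≫ g') : g = g' := by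
  ext1
  have hs := (GrothendieckTopology.Subcanonical.isSheaf_of_isRepresentable (J := Scheme.fpqcTopology)
    (yoneda.obj A.left)) _ (Precoverage.generate_mem_toGrothendieck (Scheme.fppfPrecoverage_le_fpqcPrecoverage _ hR))
  exact ((Presieve.isSheafFor_iff_generate R).2 hs).isSeparatedFor.ext
    fun U u hu => congrArg Over.Hom.left (h u hu)

theorem exists_mem_fppf {T : Scheme.{u}} {R : Presieve T} (hR : R ∈ Scheme.fppfPrecoverage T) (z : T) :
    ∃ (U : Scheme.{u}) (u : U ⟶ T) (x : U), R u ∧ u x = z := by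
  obtain ⟨U, u, hu, x, hx⟩ := Types.mem_jointlySurjectivePrecoverage_iff.1 hR.1 z |> fun ⟨Y, g, ⟨hg, hz⟩⟩ =>
    (by
      cases hg with
      | of hu => exact ⟨_, _, hu, hz⟩ : ∃ (U : Scheme.{u}) (u : U ⟶ T), R u ∧ z ∈ Set.range u)
  exact ⟨U, u, x, hu, hx⟩

section AlgTrivial

theorem isAlgEquivZero_pullback {Ω : Type u} [Field Ω] {Y Z : Scheme.{u}} (sY : Y ⟶ Spec (CommRingCat.of Ω))
    (sZ : Z ⟶ Spec (CommRingCat.of Ω)) (h : Z ⟶ Y) (w : h ≫ sY = sZ) {L : Y.Modules}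
    (hLa : @Pic13.IsAlgEquivZero Ω _ Y ⟨sY⟩ L) :
    @Pic13.IsAlgEquivZero Ω _ Z ⟨sZ⟩ ((Scheme.Modules.pullback h).obj L) := by
  letI : Y.Over (Spec (CommRingCat.of Ω)) := ⟨sY⟩
  letI : Z.Over (Spec (CommRingCat.of Ω)) := ⟨sZ⟩
  obtain ⟨C, q, h1, h2, h3, M, hM, t, t₀, ht, ht₀, ⟨e⟩, ⟨e₀⟩⟩ := hLa
  let H : Pic13.prodK Ω Z q ⟶ Pic13.prodK Ω Y q :=
    Limits.pullback.map _ _ _ _ h (𝟙 C) (𝟙 _) (by rw [Category.comp_id]; exact w.symm)
      (by rw [Category.comp_id, Category.id_comp])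
  have hH : ∀ (p : Spec (CommRingCat.of Ω) ⟶ C) (hp : p ≫ q = 𝟙 _),
      Pic13.sliceAt Ω Z q p hp ≫ H = h ≫ Pic13.sliceAt Ω Y q p hp := fun p hp => by
    apply Limits.pullback.hom_ext
    · simp only [H, Pic13.sliceAt, Category.assoc, Limits.pullback.lift_fst, Limits.pullback.lift_fst_assoc,
        Category.comp_id, Category.id_comp]
    · simp only [H, Pic13.sliceAt, Category.assoc, Limits.pullback.lift_snd, Limits.pullback.lift_snd_assoc,
        Category.comp_id]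
      change sZ ≫ p = h ≫ sY ≫ p
      rw [reassoc_of% w]
  refine ⟨C, q, h1, h2, h3, (Scheme.Modules.pullback H).obj M, AmpleDevLib.isInvertible_pb _ hM, t, t₀, ht, ht₀,
    ⟨?_⟩, ⟨?_⟩⟩
  · exact (Scheme.Modules.pullbackComp _ H).app M ≪≫ (Scheme.Modules.pullbackCongr (hH t ht)).app M ≪≫
      ((Scheme.Modules.pullbackComp h _).app M).symm ≪≫ (Scheme.Modules.pullback h).mapIso e
  · exact (Scheme.Modules.pullbackComp _ H).app M ≪≫ (Scheme.Modules.pullbackCongr (hH t₀ ht₀)).app M ≪≫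
      ((Scheme.Modules.pullbackComp h _).app M).symm ≪≫ (Scheme.Modules.pullback h).mapIso e₀ ≪≫
      KFlatLib.pullUnitIso h

theorem isAlgEquivZero_iso {Ω : Type u} [Field Ω] {Y : Scheme.{u}} [Y.Over (Spec (CommRingCat.of Ω))]
    {L L' : Y.Modules} (i : L ≅ L') (hLa : Pic13.IsAlgEquivZero Ω Y L) : Pic13.IsAlgEquivZero Ω Y L' := by
  obtain ⟨C, q, h1, h2, h3, M, hM, t, t₀, ht, ht₀, ⟨e⟩, he₀⟩ := hLa
  exact ⟨C, q, h1, h2, h3, M, hM, t, t₀, ht, ht₀, ⟨e ≪≫ i⟩, he₀⟩

theorem isAlgTrivialAt_pullback {P P' T T' : Scheme.{u}} (p : P ⟶ T) (p' : P' ⟶ T') (h : P' ⟶ P) (g : T' ⟶ T)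
    (w : h ≫ p = p' ≫ g) {L : P.Modules} (z : T') (hLa : AbDual.IsAlgTrivialAt p L (g z)) :
    AbDual.IsAlgTrivialAt p' ((Scheme.Modules.pullback h).obj L) z := by
  intro Ω _ _ σ hσ
  have hr : Set.range (σ ≫ g).base = {g z} := by
    rw [Scheme.Hom.comp_base, TopCat.coe_comp, Set.range_comp, hσ, Set.image_singleton]
  let j : pullback p' σ ⟶ pullback p (σ ≫ g) :=
    Limits.pullback.lift (Limits.pullback.fst p' σ ≫ h) (Limits.pullback.snd p' σ) (by
      rw [Category.assoc, w, Limits.pullback.condition_assoc])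
  have := isAlgEquivZero_pullback (Limits.pullback.snd p (σ ≫ g)) (Limits.pullback.snd p' σ) j
    (Limits.pullback.lift_snd _ _ _) (hLa Ω (σ ≫ g) hr)
  exact @isAlgEquivZero_iso Ω _ _ ⟨Limits.pullback.snd p' σ⟩ _ _
    ((Scheme.Modules.pullbackComp j _).app L ≪≫
      (Scheme.Modules.pullbackCongr (Limits.pullback.lift_fst _ _ _)).app L ≪≫
      ((Scheme.Modules.pullbackComp _ h).app L).symm) this

theorem isAlgTrivialAt_structure {P T : Scheme.{u}} (p : P ⟶ T) (z : T) :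
    AbDual.IsAlgTrivialAt p (Coh.structureModule P) z := by
  intro Ω _ _ σ _
  letI : (pullback p σ).Over (Spec (CommRingCat.of Ω)) := ⟨Limits.pullback.snd p σ⟩
  haveI : ConnectedSpace ↥(Spec (CommRingCat.of Ω)) := inferInstanceAs (ConnectedSpace (PrimeSpectrum Ω))
  exact ⟨Spec (CommRingCat.of Ω), 𝟙 _, inferInstance, inferInstance, inferInstance, Coh.structureModule _,
    isInvertible_one _, 𝟙 _, 𝟙 _, Category.id_comp _, Category.id_comp _,
    ⟨KFlatLib.pullUnitIso _ ≪≫ (KFlatLib.pullUnitIso _).symm⟩, ⟨KFlatLib.pullUnitIso _⟩⟩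

variable {S : Scheme.{u}} {A B : Over S}

theorem isPicZeroCl_bcMap (f : A ⟶ B) {T : Over S} {c : PicF.Cl (PicF.XT B.hom T)}
    (hc : AbDual.IsPicZeroCl B.hom T c) : AbDual.IsPicZeroCl A.hom T (PicF.pullCl (AbDual.bcMap f T) c) := by
  obtain ⟨L, rfl, hL, hLa⟩ := hc
  exact ⟨_, rfl, AmpleDevLib.isInvertible_pb _ hL, fun z => isAlgTrivialAt_pullback _ _ (AbDual.bcMap f T) (𝟙 _)
    ((bcMap_snd f T).trans (Category.comp_id _).symm) z (hLa z)⟩

theorem isPicZeroCl_XTmap {T T' : Over S} (g : T' ⟶ T) {c : PicF.Cl (PicF.XT A.hom T)}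
    (hc : AbDual.IsPicZeroCl A.hom T c) : AbDual.IsPicZeroCl A.hom T' (PicF.pullCl (PicF.XTmap A.hom g) c) := by
  obtain ⟨L, rfl, hL, hLa⟩ := hc
  exact ⟨_, rfl, AmpleDevLib.isInvertible_pb _ hL, fun z => isAlgTrivialAt_pullback _ _ (PicF.XTmap A.hom g) g.left
    (XTmap_snd A.hom g) z (hLa (g.left z))⟩

theorem isPicZeroCl_structure (A : Over S) (T : Over S) :
    AbDual.IsPicZeroCl A.hom T (PicF.cl (Coh.structureModule _)) :=
  ⟨_, rfl, isInvertible_one _, fun z => isAlgTrivialAt_structure _ z⟩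

theorem bcMap_id (A T : Over S) : AbDual.bcMap (𝟙 A) T = 𝟙 _ := by
  apply Limits.pullback.hom_ext
  · rw [bcMap_fst, Over.id_left, Category.comp_id]
    exact (Category.id_comp _).symm
  · rw [bcMap_snd]
    exact (Category.id_comp _).symm

theorem secT_natural [GrpObj A] {T T' : Over S} (g : T' ⟶ T) :
    PicF.secT A.hom η[A].left (Over.w η[A]) T' ≫ PicF.XTmap A.hom g =
      g.left ≫ PicF.secT A.hom η[A].left (Over.w η[A]) T := by
  apply Limits.pullback.hom_ext
  · simp only [Category.assoc, XTmap_fst]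
    simp only [PicF.secT, Limits.pullback.lift_fst, reassoc_of% (Over.w g)]
  · simp only [Category.assoc, XTmap_snd]
    simp only [PicF.secT, Limits.pullback.lift_snd, Limits.pullback.lift_snd_assoc, Category.comp_id, Category.id_comp]

end AlgTrivial

section Dual

variable {S : Scheme.{u}} {A At : Over S} [GrpObj At]
  {φ : ∀ T : Over S, PicF.Cl (PicF.XT A.hom T) → (T ⟶ At)} (hA : AbDual.IsDualAV Scheme.fppfPrecoverage A At φ)

include hA

theorem phi_structure (T : Over S) : φ T (PicF.cl (Coh.structureModule _)) = 1 := by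
  have h := hA.mul T _ _ (isPicZeroCl_structure A T) (isPicZeroCl_structure A T)
  rw [show PicF.cl (CohB1.tensorMod (Coh.structureModule (PicF.XT A.hom T)) (Coh.structureModule _)) =
    PicF.cl (Coh.structureModule _) from Quot.sound ⟨HilbPolyLib.unitLeft _⟩] at h
  exact left_eq_mul.1 h

variable {Y : Over S} [GrpObj Y]

theorem phi_pullCl_one (T : Over S) {c : PicF.Cl (PicF.XT Y.hom T)} (hc : AbDual.IsPicZeroCl Y.hom T c) :
    φ T (PicF.pullCl (AbDual.bcMap (1 : A ⟶ Y) T) c) = 1 := by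
  have hc' := isPicZeroCl_bcMap (1 : A ⟶ Y) hc
  obtain ⟨L, rfl, hL, -⟩ := hc
  let s := PicF.secT Y.hom η[Y].left (Over.w η[Y]) T
  have hs : PicF.IsInvertible ((Scheme.Modules.pullback s).obj L) := AmpleDevLib.isInvertible_pb _ hL
  choose U hU hUt using hs
  ext1
  refine Scheme.Cover.hom_ext (T.left.openCoverOfIsOpenCover U
    (TopologicalSpace.Opens.ext (Set.eq_univ_of_forall fun y => by
      rw [TopologicalSpace.Opens.coe_iSup]; exact Set.mem_iUnion.2 ⟨y, hU y⟩))) _ _ fun y => ?_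
  show (U y).ι ≫ _ = (U y).ι ≫ _
  let i := AbDual.ovrHom T (U y).ι
  have e : i ≫ φ T (PicF.pullCl (AbDual.bcMap (1 : A ⟶ Y) T) (PicF.cl L)) = i ≫ 1 := by
    rw [← hA.relPic.natural T _ i _ hc', pullCl_pullCl, bcMap_natural, bcMap_one,
      Category.assoc, secT_natural, MonObj.comp_one, ← phi_structure hA]
    congr 1
    refine Quot.sound ⟨((Scheme.Modules.pullbackComp _ _).app L).symm ≪≫
      (Scheme.Modules.pullback _).mapIso (((Scheme.Modules.pullbackComp i.left s).app L).symm ≪≫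
        ((Scheme.Modules.restrictFunctorIsoPullback (U y).ι).app _).symm ≪≫ (hUt y).some) ≪≫
      KFlatLib.pullUnitIso _⟩
  exact congrArg Over.Hom.left e

variable [IsProper Y.hom] [Flat Y.hom] [LocallyOfFinitePresentation Y.hom] [GeometricallyIntegral Y.hom]

theorem phi_pullCl_mul (T : Over S) {c : PicF.Cl (PicF.XT Y.hom T)} (hc : AbDual.IsPicZeroCl Y.hom T c)
    (f g : A ⟶ Y) : φ T (PicF.pullCl (AbDual.bcMap (f * g) T) c) =
      φ T (PicF.pullCl (AbDual.bcMap f T) c) * φ T (PicF.pullCl (AbDual.bcMap g T) c) := by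
  obtain ⟨L, rfl, hL, hLa⟩ := hc
  have hc : AbDual.IsPicZeroCl Y.hom T (PicF.cl L) := ⟨L, rfl, hL, hLa⟩
  have hd := pullA_defect Y (lift f g) T hL
  rw [defect_eq_zero_of_algEquivZero Y T hL hLa, map_zero, lift_fst, lift_snd, eq_comm, sub_sub,
    sub_add_eq_add_sub, sub_eq_zero, pullA_clA _ hL, pullA_clA _ hL, pullA_clA _ hL, pullA_clA _ hL,
    ← clA_tensor, ← clA_tensor, clA_eq_iff] at hd
  have h1 := hA.mul T _ _ (isPicZeroCl_bcMap (f * g) hc) (isPicZeroCl_bcMap (1 : A ⟶ Y) hc)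
  have h2 := hA.mul T _ _ (isPicZeroCl_bcMap f hc) (isPicZeroCl_bcMap g hc)
  rw [show PicF.cl _ = PicF.cl _ from Quot.sound hd] at h1
  refine Eq.trans ?_ h2
  rw [h1]
  exact (mul_eq_left.2 (phi_pullCl_one hA T hc)).symm

end Dual

end CubeConsLib

namespace CubeConsLib

theorem geometricallyIntegral_of_smooth_group {S : Scheme.{u}} (X : Over S) [GrpObj X] [Smooth X.hom]
    [GeometricallyConnected X.hom] : GeometricallyIntegral X.hom := by
  have := AbSchLib.geometricallyReduced_of_smooth X.hom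
  exact geometricallyIntegral_of_group X

end CubeConsLib
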