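import Groth.Agent.CubeConsLib.Defect
import Groth.Agent.S8124

/-!
The defect on geometric fibres and along connected families.
-/

set_option autoImplicit false
set_option maxRecDepth 8000
set_option maxHeartbeats 1000000

noncomputable section

universe u

open CategoryTheory MonoidalCategory CartesianMonoidalCategory MonObj AlgebraicGeometry
open Limits (pullback)

namespace CubeConsLib

/-- The product of two geometrically integral families is geometrically integral. -/
theorem geometricallyIntegral_prod {X Y S : Scheme.{u}} (f : X ⟶ S) (g : Y ⟶ S) [Flat f]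
    [LocallyOfFinitePresentation f] [GeometricallyIntegral f] [Flat g] [LocallyOfFinitePresentation g]
    [GeometricallyIntegral g] : GeometricallyIntegral (pullback.fst f g ≫ f) := by
  refine ⟨fun K _ y Z fst snd h => ?_⟩
  have : LocallyOfFiniteType (pullback.snd f y) := inferInstance
  have : IsLocallyNoetherian (pullback f y) := LocallyOfFiniteType.isLocallyNoetherian (pullback.snd f y)
  have : IsIntegral (pullback f y) :=
    GeometricallyIntegral.geometrically_isIntegral (f := f) y _ _ (IsPullback.of_hasPullback f y)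
  let P := pullback (pullback.fst f g) (pullback.fst f y)
  have hP : IsIntegral P := inferInstance
  have H : IsPullback (pullback.fst (pullback.fst f g) (pullback.fst f y))
      (pullback.snd (pullback.fst f g) (pullback.fst f y) ≫ pullback.snd f y) (pullback.fst f g ≫ f) y :=
    (IsPullback.of_hasPullback _ _).paste_vert (IsPullback.of_hasPullback f y)
  have : Nonempty Z := ⟨(h.isoIsPullback _ _ H).inv (Nonempty.some inferInstance)⟩
  exact isIntegral_of_isOpenImmersion (h.isoIsPullback _ _ H).hom

@[reassoc]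
theorem XTmap_fst {A S : Scheme.{u}} (f : A ⟶ S) {T T' : Over S} (h : T' ⟶ T) :
    PicF.XTmap f h ≫ Limits.pullback.fst f T.hom = Limits.pullback.fst f T'.hom :=
  (Limits.pullback.lift_fst _ _ _).trans (Category.comp_id _)

@[reassoc]
theorem XTmap_snd {A S : Scheme.{u}} (f : A ⟶ S) {T T' : Over S} (h : T' ⟶ T) :
    PicF.XTmap f h ≫ Limits.pullback.snd f T.hom = Limits.pullback.snd f T'.hom ≫ h.left :=
  Limits.pullback.lift_snd _ _ _

variable {S : Scheme.{u}} (X : Over S) [GrpObj X] [IsProper X.hom] [Flat X.hom]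
  [LocallyOfFinitePresentation X.hom] [GeometricallyIntegral X.hom]

theorem trivial_of_field_ext {K Ω : Type u} [Field K] [Field Ω] (φ : CommRingCat.of K ⟶ CommRingCat.of Ω)
    {P : Scheme.{u}} (p : P ⟶ Spec (CommRingCat.of K)) [IsProper p] [GeometricallyIntegral p]
    {L : P.Modules} (hL : PicF.IsInvertible L) (h : pullA (pullback.fst p (Spec.map φ)) (clA hL) = 0) :
    clA hL = 0 := by
  letI : Algebra K Ω := φ.hom.toAlgebra
  rw [pullA_clA _ hL, ← clA_one, clA_eq_iff] at h
  rw [← clA_one, clA_eq_iff]
  exact Groth.Agent.S8124.result K P p L hL Ω h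

/-- A field-valued point detects the vanishing of the defect on the fibre. -/
theorem defect_fibre_of_geometric (T : Over S) {L : (PicF.XT X.hom T).Modules} (hL : PicF.IsInvertible L)
    (z : T.left) {Ω : Type u} [Field Ω] (σ : Spec (CommRingCat.of Ω) ⟶ T.left)
    (hσ : σ (IsLocalRing.closedPoint Ω) = z)
    (h : pullA (PicF.XTmap (X ⊗ X).hom (Over.homMk σ rfl : Over.mk (σ ≫ T.hom) ⟶ T)) (defect X T hL) = 0) :
    pullA ((PicF.XTproj (X ⊗ X).hom T).fiberι z) (defect X T hL) = 0 := by
  obtain ⟨D, hD, hc⟩ := exists_rep X T hL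
  rw [← hc] at h ⊢
  let q := PicF.XTproj (X ⊗ X).hom T
  have : GeometricallyIntegral (X ⊗ X).hom := geometricallyIntegral_prod X.hom X.hom
  have hpr : IsProper (X ⊗ X).hom := inferInstanceAs (IsProper (pullback.fst X.hom X.hom ≫ X.hom))
  have : GeometricallyIntegral q :=
    inferInstanceAs (GeometricallyIntegral (pullback.snd (X ⊗ X).hom T.hom))
  have : IsProper q := MorphismProperty.pullback_snd (P := @IsProper) _ _ hpr
  let p := q.fiberToSpecResidueField z
  have : IsProper p := MorphismProperty.pullback_snd (P := @IsProper) _ _ ‹IsProper q›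
  have : GeometricallyIntegral p :=
    inferInstanceAs (GeometricallyIntegral (pullback.snd q (T.left.fromSpecResidueField z)))
  subst hσ
  let e : CommRingCat.of Ω ≅ CommRingCat.of Ω := Iso.refl _
  let φ := Scheme.descResidueField (Scheme.stalkClosedPointTo σ)
  let ψ := Spec.map φ
  have hψ : ψ ≫ T.left.fromSpecResidueField (σ (IsLocalRing.closedPoint Ω)) = σ :=
    Scheme.descResidueField_stalkClosedPointTo_fromSpecResidueField Ω _ σ
  letI : Algebra (T.left.residueField (σ (IsLocalRing.closedPoint Ω))) Ω := φ.hom.toAlgebra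
  let v : pullback p ψ ⟶ PicF.XT (X ⊗ X).hom (Over.mk (σ ≫ T.hom)) :=
    Limits.pullback.lift (pullback.fst p ψ ≫ q.fiberι _ ≫ pullback.fst (X ⊗ X).hom T.hom) (pullback.snd p ψ) (by
      simp only [Category.assoc, Limits.pullback.condition, Over.mk_hom]
      rw [← Category.assoc (q.fiberι _), q.fiber_fac, ← Category.assoc (pullback.fst p ψ),
        ← Category.assoc (pullback.fst p ψ), Limits.pullback.condition, Category.assoc, Category.assoc,
        ← Category.assoc ψ, hψ])
  have hv : v ≫ PicF.XTmap (X ⊗ X).hom (Over.homMk σ rfl : Over.mk (σ ≫ T.hom) ⟶ T) =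
      pullback.fst p ψ ≫ q.fiberι _ := by
    apply Limits.pullback.hom_ext
    · simp only [v, PicF.XTmap, Category.assoc, Limits.pullback.lift_fst, Category.comp_id]
    · simp only [v, PicF.XTmap, Category.assoc, Limits.pullback.lift_snd, Limits.pullback.lift_snd_assoc,
        Over.homMk_left]
      rw [show q.fiberι _ ≫ pullback.snd (X ⊗ X).hom T.hom = p ≫ T.left.fromSpecResidueField _ from q.fiber_fac _,
        Limits.pullback.condition_assoc, hψ]
  have key := congrArg (pullA v) h
  rw [map_zero, pullA_comp, hv, ← pullA_comp, pullA_clA _ hD] at key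
  rw [pullA_clA _ hD]
  exact trivial_of_field_ext (K := T.left.residueField (σ (IsLocalRing.closedPoint Ω))) φ p _ key

theorem fromSpecResidueField_closedPoint {Ω : Type u} [Field Ω] {C : Scheme.{u}} (q : C ⟶ Spec (CommRingCat.of Ω))
    (t : Spec (CommRingCat.of Ω) ⟶ C) (ht : t ≫ q = 𝟙 _) :
    C.fromSpecResidueField (t (IsLocalRing.closedPoint Ω)) =
      (C.fromSpecResidueField (t (IsLocalRing.closedPoint Ω)) ≫ q) ≫ t := by
  rw [Category.assoc]
  exact CubeLib.fromSpecResidueField_section q t ht _

/-- The defect vanishes on classes algebraically equivalent to zero on the geometric fibres. -/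
theorem defect_eq_zero_of_algEquivZero (T : Over S) {L : (PicF.XT X.hom T).Modules} (hL : PicF.IsInvertible L)
    (h : ∀ z, AbDual.IsAlgTrivialAt (PicF.XTproj X.hom T) L z) : defect X T hL = 0 := by
  refine defect_eq_zero_of_fibres X T hL fun z => ?_
  let Ω := AlgebraicClosure (T.left.residueField z)
  let σ : Spec (CommRingCat.of Ω) ⟶ T.left :=
    Spec.map (CommRingCat.ofHom (algebraMap (T.left.residueField z) Ω)) ≫ T.left.fromSpecResidueField z
  have hσ : σ (IsLocalRing.closedPoint Ω) = z := by
    rw [Scheme.Hom.comp_apply, Scheme.fromSpecResidueField_apply]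
  refine defect_fibre_of_geometric X T hL z σ hσ ?_
  obtain ⟨C, qC, hconn, hft, hqc, M, hM, t, t₀, ht, ht₀, he, he₀⟩ := h z Ω σ (by
    ext y
    constructor
    · rintro ⟨a, rfl⟩
      rw [Subsingleton.elim (α := PrimeSpectrum Ω) a (IsLocalRing.closedPoint Ω)]
      exact hσ
    · rintro rfl
      exact ⟨_, hσ⟩)
  let Tσ : Over S := Over.mk (σ ≫ T.hom)
  let hσ' : Tσ ⟶ T := Over.homMk σ rfl
  let TC : Over S := Over.mk (qC ≫ σ ≫ T.hom)
  have : ConnectedSpace TC.left := hconn
  letI : (pullback (PicF.XTproj X.hom T) σ).Over (Spec (CommRingCat.of Ω)) := ⟨pullback.snd _ σ⟩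
  let mC : PicF.XT X.hom TC ⟶ Pic13.prodK Ω (pullback (PicF.XTproj X.hom T) σ) qC :=
    Limits.pullback.lift
      (Limits.pullback.lift
        (Limits.pullback.lift (pullback.fst X.hom TC.hom) (pullback.snd X.hom TC.hom ≫ qC ≫ σ) (by
          rw [Limits.pullback.condition]; simp [TC]))
        (pullback.snd X.hom TC.hom ≫ qC) ((Limits.pullback.lift_snd _ _ _).trans (Category.assoc _ _ _).symm))
      (pullback.snd X.hom TC.hom) (Limits.pullback.lift_snd _ _ _)
  have hLC : PicF.IsInvertible ((Scheme.Modules.pullback mC).obj M) := AmpleDevLib.isInvertible_pb _ hM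
  have along : ∀ (p : Spec (CommRingCat.of Ω) ⟶ C) (hp : p ≫ qC = 𝟙 _),
      pullA (PicF.XTmap X.hom (Over.homMk p (by
        show p ≫ qC ≫ σ ≫ T.hom = σ ≫ T.hom
        rw [reassoc_of% hp]) : Tσ ⟶ TC)) (clA hLC) =
      pullA (Limits.pullback.lift
          (Limits.pullback.lift (pullback.fst X.hom Tσ.hom) (pullback.snd X.hom Tσ.hom ≫ σ) (by
            rw [Limits.pullback.condition]; simp [Tσ]))
          (pullback.snd X.hom Tσ.hom) (Limits.pullback.lift_snd _ _ _) :
            PicF.XT X.hom Tσ ⟶ pullback (PicF.XTproj X.hom T) σ)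
        (pullA (Limits.pullback.lift (𝟙 _) (pullback.snd (PicF.XTproj X.hom T) σ ≫ p) (by
          rw [Category.id_comp, Category.assoc, hp, Category.comp_id]; rfl) :
            pullback (PicF.XTproj X.hom T) σ ⟶ Pic13.prodK Ω (pullback (PicF.XTproj X.hom T) σ) qC) (clA hM)) := by
    intro p hp
    rw [← pullA_clA mC hM, pullA_comp, pullA_comp]
    congr 2
    apply Limits.pullback.hom_ext
    · apply Limits.pullback.hom_ext
      · apply Limits.pullback.hom_ext
        · simp only [mC, Category.assoc, Limits.pullback.lift_fst, Limits.pullback.lift_fst_assoc,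
            Category.id_comp, XTmap_fst]
        · simp only [mC, Category.assoc, Limits.pullback.lift_fst, Limits.pullback.lift_fst_assoc,
            Limits.pullback.lift_snd, Category.id_comp, XTmap_snd_assoc, Over.homMk_left, reassoc_of% hp]
      · simp only [mC, Category.assoc, Limits.pullback.lift_fst, Limits.pullback.lift_fst_assoc,
          Limits.pullback.lift_snd, Category.id_comp, XTmap_snd_assoc, Over.homMk_left, hp]
        exact Category.comp_id _
    · simp only [mC, Category.assoc, Limits.pullback.lift_snd, Limits.pullback.lift_snd_assoc, XTmap_snd,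
        Over.homMk_left]
  have hfib₀ : pullA (PicF.XTmap (X ⊗ X).hom (Over.homMk t₀ (by
      show t₀ ≫ qC ≫ σ ≫ T.hom = σ ≫ T.hom
      rw [reassoc_of% ht₀]) : Tσ ⟶ TC)) (defect X TC hLC) = 0 := by
    have e₀ := clA_eq_iff (AmpleDevLib.isInvertible_pb _ hM) (isInvertible_one _) |>.2 he₀
    rw [clA_one, ← pullA_clA _ hM] at e₀
    rw [defect_natural X _ hLC (isInvertible_one _) (by
      rw [clA_one, along t₀ ht₀]
      exact (congrArg _ e₀).trans (map_zero _))]
    simp only [defect, clA_one, map_zero]
    abel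
  have hC : defect X TC hLC = 0 := by
    refine defect_eq_zero_of_connected X TC hLC (t₀ (IsLocalRing.closedPoint Ω)) ?_
    let q := PicF.XTproj (X ⊗ X).hom TC
    let w := t₀ (IsLocalRing.closedPoint Ω)
    have hw : q.fiberι w ≫ q = q.fiberToSpecResidueField w ≫ (TC.left.fromSpecResidueField w ≫ qC) ≫ t₀ := by
      rw [q.fiber_fac]
      exact congrArg (q.fiberToSpecResidueField w ≫ ·) (fromSpecResidueField_closedPoint qC t₀ ht₀)
    let l : q.fiber w ⟶ PicF.XT (X ⊗ X).hom Tσ :=
      Limits.pullback.lift (q.fiberι w ≫ pullback.fst (X ⊗ X).hom TC.hom)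
        (q.fiberToSpecResidueField w ≫ TC.left.fromSpecResidueField w ≫ qC) (by
          rw [Category.assoc, Limits.pullback.condition, ← Category.assoc]
          refine (congrArg (· ≫ TC.hom) hw).trans ?_
          simp [TC, Tσ, reassoc_of% ht₀])
    have hl : q.fiberι w = l ≫ PicF.XTmap (X ⊗ X).hom (Over.homMk t₀ (by
        show t₀ ≫ qC ≫ σ ≫ T.hom = σ ≫ T.hom
        rw [reassoc_of% ht₀]) : Tσ ⟶ TC) := by
      apply Limits.pullback.hom_ext
      · simp only [l, Category.assoc, XTmap_fst]
        exact (Limits.pullback.lift_fst _ _ _).symm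
      · simp only [l, Category.assoc, XTmap_snd, Over.homMk_left, Limits.pullback.lift_snd_assoc]
        exact hw.trans (by simp only [Category.assoc])
    rw [hl, ← pullA_comp, hfib₀, map_zero]
  have e := clA_eq_iff (AmpleDevLib.isInvertible_pb _ hM)
    (AmpleDevLib.isInvertible_pb (pullback.fst (PicF.XTproj X.hom T) σ) hL) |>.2 he
  rw [← pullA_clA _ hM, ← pullA_clA _ hL] at e
  have h' := congrArg (pullA (PicF.XTmap (X ⊗ X).hom (Over.homMk t (by
      show t ≫ qC ≫ σ ≫ T.hom = σ ≫ T.hom
      rw [reassoc_of% ht]) : Tσ ⟶ TC))) hC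
  rw [map_zero, defect_natural X _ hLC (AmpleDevLib.isInvertible_pb (PicF.XTmap X.hom hσ') hL) (by
    rw [along t ht]
    refine (congrArg _ e).trans ?_
    rw [← pullA_clA _ hL, pullA_comp]
    congr 2
    apply Limits.pullback.hom_ext
    · simp only [Category.assoc, XTmap_fst, Limits.pullback.lift_fst, Limits.pullback.lift_fst_assoc]
    · simp only [Category.assoc, XTmap_snd, Limits.pullback.lift_snd, Limits.pullback.lift_fst_assoc,
        Limits.pullback.lift_fst, hσ', Over.homMk_left])] at h'
  rw [defect_natural X hσ' hL (AmpleDevLib.isInvertible_pb (PicF.XTmap X.hom hσ') hL) (pullA_clA _ hL)]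
  exact h'

end CubeConsLib

namespace CubeConsLib

variable {S : Scheme.{u}} {X : Over S} [GrpObj X]

theorem bcMap_one {W : Over S} (T : Over S) :
    AbDual.bcMap (1 : W ⟶ X) T = Limits.pullback.snd W.hom T.hom ≫ PicF.secT X.hom η[X].left (Over.w η[X]) T := by
  apply Limits.pullback.hom_ext
  · rw [bcMap_fst, Category.assoc, show (1 : W ⟶ X) = toUnit _ ≫ η from Hom.one_def, Over.comp_left]
    simp only [PicF.secT, Limits.pullback.lift_fst]
    rw [← Category.assoc (Limits.pullback.snd W.hom T.hom), ← Limits.pullback.condition]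
    exact (Category.assoc _ _ _).symm
  · rw [bcMap_snd, Category.assoc]
    exact ((congrArg (_ ≫ ·) (Limits.pullback.lift_snd _ _ _)).trans (Category.comp_id _)).symm

theorem whiskerRight_left {A B : Over S} (f : A ⟶ B) (T : Over S) : (f ▷ T).left = AbDual.bcMap f T := by
  apply Limits.pullback.hom_ext
  · rw [bcMap_fst]
    exact congrArg Over.Hom.left (whiskerRight_fst f T)
  · rw [bcMap_snd]
    exact congrArg Over.Hom.left (whiskerRight_snd f T)

theorem pullA_eq_zero_of_point {P Y Z : Scheme.{u}} [Subsingleton Y] [Nonempty Y] (h : P ⟶ Y) (g : Y ⟶ Z)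
    {L : Z.Modules} (hL : PicF.IsInvertible L) : pullA (h ≫ g) (clA hL) = 0 :=
  congrArg Additive.ofMul (Units.ext (pull_eq_one_of_factor h g hL))

end CubeConsLib
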