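import Groth.Agent.CubeConsLib.IsoCls
import Groth.Agent.S17254
import Groth.Agent.H0Lib.Apply
import Mathlib.CategoryTheory.Monoidal.Cartesian.Over

/-!
The cube relation for three morphisms to an abelian variety.
-/

set_option autoImplicit false
set_option maxRecDepth 8000
set_option maxHeartbeats 1000000

noncomputable section

universe u

open CategoryTheory MonoidalCategory CartesianMonoidalCategory MonObj GrpObj AlgebraicGeometry

namespace CubeConsLib

variable {K : Type u} [Field K] {V A : Over (Spec (CommRingCat.of K))}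

theorem pull_one [GrpObj A] {L : A.left.Modules} (hL : PicF.IsInvertible L) :
    pull (1 : V ⟶ A).left (cl L) = 1 := by
  rw [show (1 : V ⟶ A) = toUnit V ≫ η from Hom.one_def, Over.comp_left]
  have : Subsingleton (𝟙_ (Over (Spec (CommRingCat.of K)))).left :=
    inferInstanceAs (Subsingleton (PrimeSpectrum K))
  have : Nonempty (𝟙_ (Over (Spec (CommRingCat.of K)))).left :=
    inferInstanceAs (Nonempty (PrimeSpectrum K))
  exact pull_eq_one_of_factor _ _ hL

theorem pull_pull {W : Over (Spec (CommRingCat.of K))} (a : W ⟶ V) (b : V ⟶ A) (c : IsoCls A.left) :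
    pull a.left (pull b.left c) = pull (a ≫ b).left c := by
  rw [pull_comp, Over.comp_left]

variable [GrpObj A] [IsProper A.hom] [GeometricallyIntegral A.hom] {L : A.left.Modules}

/-- **The cube relation for three morphisms**. -/
theorem cube_three (hL : PicF.IsInvertible L) (f g h : V ⟶ A) :
    pull (f * g * h).left (cl L) * pull f.left (cl L) * pull g.left (cl L) * pull h.left (cl L) =
      pull (f * g).left (cl L) * pull (f * h).left (cl L) * pull (g * h).left (cl L) := by
  let p1 : A ⊗ A ⊗ A ⟶ A := fst _ _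
  let p2 : A ⊗ A ⊗ A ⟶ A := snd _ _ ≫ fst _ _
  let p3 : A ⊗ A ⊗ A ⟶ A := snd _ _ ≫ snd _ _
  let P := fun m : A ⊗ A ⊗ A ⟶ A => (Scheme.Modules.pullback m.left).obj L
  have hP : ∀ m, PicF.IsInvertible (P m) := fun m => AmpleDevLib.isInvertible_pb m.left hL
  let M := CohB1.tensorMod (CohB1.tensorMod (CohB1.tensorMod (P (p1 * p2 * p3)) (P p1)) (P p2)) (P p3)
  let N := CohB1.tensorMod (CohB1.tensorMod (P (p1 * p2)) (P (p1 * p3))) (P (p2 * p3))
  have hM : PicF.IsInvertible M := HilbPolyLib.isInvertible_tensor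
    (HilbPolyLib.isInvertible_tensor (HilbPolyLib.isInvertible_tensor (hP _) (hP _)) (hP _)) (hP _)
  have hN : PicF.IsInvertible N :=
    HilbPolyLib.isInvertible_tensor (HilbPolyLib.isInvertible_tensor (hP _) (hP _)) (hP _)
  let D := CohB1.tensorMod M (MiscFlat6.dual N)
  have hNd : cl N * cl (MiscFlat6.dual N) = 1 := cl_eq_one_iff.2 (MiscFlat6.nonempty_dualIso hN)
  have key : ∀ {W : Over (Spec (CommRingCat.of K))} (j : W ⟶ A ⊗ A ⊗ A),
      pull j.left (cl M) = pull j.left (cl N) →
        Nonempty ((Scheme.Modules.pullback j.left).obj D ≅ Coh.structureModule W.left) := fun j e => by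
    rw [← cl_eq_one_iff, ← pull_cl, cl_tensor, map_mul, e, ← map_mul, hNd, map_one]
  have expand : ∀ {W : Over (Spec (CommRingCat.of K))} (j : W ⟶ A ⊗ A ⊗ A) (a b c : W ⟶ A),
      j ≫ p1 = a → j ≫ p2 = b → j ≫ p3 = c →
      pull j.left (cl M) = pull (a * b * c).left (cl L) * pull a.left (cl L) * pull b.left (cl L) * pull c.left (cl L) ∧
        pull j.left (cl N) = pull (a * b).left (cl L) * pull (a * c).left (cl L) * pull (b * c).left (cl L) := by
    rintro W j a b c rfl rfl rfl
    simp only [M, N, P, cl_tensor, map_mul, ← pull_cl, pull_pull, MonObj.comp_mul, and_self]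
  have : GeometricallyConnected A.hom := H0Lib.geometricallyConnected_of_integral A.hom
  obtain ⟨e⟩ := Groth.Agent.S17254.result K A A A η η η D (isInvertible_tensor_dual hM hN)
    (key _ (by
      obtain ⟨e1, e2⟩ := expand (lift (toUnit (A ⊗ A) ≫ η) (𝟙 (A ⊗ A))) 1 (fst A A) (snd A A)
        (by simp [p1, Hom.one_def]) (by simp [p2]) (by simp [p3])
      rw [e1, e2]
      simp only [_root_.one_mul, _root_.mul_one, pull_one hL]
      ac_rfl))
    (key _ (by
      obtain ⟨e1, e2⟩ := expand (lift (fst A A) (lift (toUnit (A ⊗ A) ≫ η) (snd A A))) (fst A A) 1 (snd A A)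
        (by simp [p1]) (by simp [p2, Hom.one_def]) (by simp [p3])
      rw [e1, e2]
      simp only [_root_.one_mul, _root_.mul_one, pull_one hL]
      ac_rfl))
    (key _ (by
      obtain ⟨e1, e2⟩ := expand (lift (fst A A) (lift (snd A A) (toUnit (A ⊗ A) ≫ η))) (fst A A) (snd A A) 1
        (by simp [p1]) (by simp [p2]) (by simp [p3, Hom.one_def])
      rw [e1, e2]
      simp only [_root_.one_mul, _root_.mul_one, pull_one hL]
      ))
  have hD : cl D = 1 := cl_eq_one_iff.2 ⟨e⟩
  have hMN : cl M = cl N := by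
    calc cl M = cl M * (cl N * cl (MiscFlat6.dual N)) := by rw [hNd, _root_.mul_one]
      _ = cl N * (cl M * cl (MiscFlat6.dual N)) := mul_left_comm _ _ _
      _ = cl N := by rw [← cl_tensor, hD, _root_.mul_one]
  obtain ⟨e1, e2⟩ := expand (lift f (lift g h)) f g h (by simp [p1]) (by simp [p2]) (by simp [p3])
  rw [← e1, ← e2, hMN]

end CubeConsLib
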