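import Groth.Agent.CubeConsLib.Hom
import Groth.Agent.CubeConsLib.ThreeMaps

/-!
Over a field: points give trivial pullbacks, and translation identities.
-/

set_option autoImplicit false
set_option maxRecDepth 8000
set_option maxHeartbeats 1000000

noncomputable section

universe u

open CategoryTheory MonoidalCategory CartesianMonoidalCategory MonObj AlgebraicGeometry

namespace CubeConsLib

variable {K : Type u} [Field K] {V W A : Over (Spec (CommRingCat.of K))}
  {L : A.left.Modules} (hL : PicF.IsInvertible L)

theorem P_zero [GrpObj A] : P hL (1 : V ⟶ A) = 0 :=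
  congrArg Additive.ofMul (Units.ext (pull_one hL))

theorem P_const (c : 𝟙_ (Over (Spec (CommRingCat.of K))) ⟶ A) : P hL (toUnit V ≫ c) = 0 := by
  have : Subsingleton (𝟙_ (Over (Spec (CommRingCat.of K)))).left := inferInstanceAs (Subsingleton (PrimeSpectrum K))
  have : Nonempty (𝟙_ (Over (Spec (CommRingCat.of K)))).left := inferInstanceAs (Nonempty (PrimeSpectrum K))
  refine congrArg Additive.ofMul (Units.ext ?_)
  show pull (toUnit V ≫ c).left (cl L) = 1
  rw [Over.comp_left]
  exact pull_eq_one_of_factor _ _ hL

variable [GrpObj A] [IsProper A.hom] [GeometricallyIntegral A.hom]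

theorem cube_field (f g h : V ⟶ A) :
    P hL (f * g * h) + P hL f + P hL g + P hL h = P hL (f * g) + P hL (f * h) + P hL (g * h) := by
  have : LocallyOfFinitePresentation A.hom := LocallyOfFinitePresentation.iff_locallyOfFiniteType.2 inferInstance
  rw [cube hL f g h, P_zero hL, add_zero]

theorem isCommMonObj_field : IsCommMonObj A :=
  isCommMonObj_of_isProper_of_geometricallyIntegral A

end CubeConsLib
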