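import Groth.Agent.CubeConsLib.Rel
import Groth.Agent.AmpleThLib.Pow
import Groth.Agent.H0Lib.Apply
import Mathlib.Algebra.Module.Basic
import Mathlib.Tactic.Abel

/-!
The group of classes of invertible modules and the behaviour of `f ↦ f^*L` on morphisms to an abelian scheme.
-/

set_option autoImplicit false
set_option maxRecDepth 8000
set_option maxHeartbeats 1000000

noncomputable section

universe u

open CategoryTheory MonoidalCategory CartesianMonoidalCategory MonObj AlgebraicGeometry

namespace CubeConsLib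

variable {X Y Z : Scheme.{u}}

/-- The Picard group, additively. -/
abbrev PicA (X : Scheme.{u}) := Additive (IsoCls X)ˣ

theorem cl_mul_dual {L : X.Modules} (hL : PicF.IsInvertible L) : cl L * cl (MiscFlat6.dual L) = 1 :=
  cl_eq_one_iff.2 (MiscFlat6.nonempty_dualIso hL)

/-- The class of an invertible module. -/
def clA {L : X.Modules} (hL : PicF.IsInvertible L) : PicA X :=
  Additive.ofMul ⟨cl L, cl (MiscFlat6.dual L), cl_mul_dual hL, (mul_comm _ _).trans (cl_mul_dual hL)⟩

theorem clA_eq_iff {L M : X.Modules} (hL : PicF.IsInvertible L) (hM : PicF.IsInvertible M) :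
    clA hL = clA hM ↔ Nonempty (L ≅ M) :=
  ⟨fun h => cl_eq_iff.1 (congrArg (fun x : PicA X => ((Additive.toMul x : (IsoCls X)ˣ) : IsoCls X)) h),
    fun h => congrArg Additive.ofMul (Units.ext (cl_eq_iff.2 h))⟩

theorem clA_tensor {L M : X.Modules} (hL : PicF.IsInvertible L) (hM : PicF.IsInvertible M) :
    clA (HilbPolyLib.isInvertible_tensor hL hM) = clA hL + clA hM :=
  congrArg Additive.ofMul (Units.ext (cl_tensor L M))

theorem isInvertible_one (X : Scheme.{u}) : PicF.IsInvertible (Coh.structureModule X) :=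
  (CohCmpLib.invertible_iff_rank_one _).2 (CohCmpLib.rank_one_structureModule X)

theorem clA_one (X : Scheme.{u}) : clA (isInvertible_one X) = 0 :=
  congrArg Additive.ofMul (Units.ext rfl)

theorem clA_pow {L : X.Modules} (hL : PicF.IsInvertible L) :
    ∀ n : ℕ, clA (AmpleThLib.tensorPow_isInvertible hL n) = n • clA hL
  | 0 => by rw [zero_smul]; exact clA_one X
  | n + 1 => by
    rw [succ_nsmul, ← clA_pow hL n, ← clA_tensor]
    exact (clA_eq_iff _ _).2 ⟨Iso.refl _⟩

theorem clA_dual {L : X.Modules} (hL : PicF.IsInvertible L) :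
    clA (MiscFlat6.dual_isInvertible hL) = -clA hL := by
  rw [eq_neg_iff_add_eq_zero, add_comm, ← clA_tensor, ← clA_one, clA_eq_iff]
  exact MiscFlat6.nonempty_dualIso hL

theorem exists_clA_zsmul {L : X.Modules} (hL : PicF.IsInvertible L) (m : ℤ) :
    ∃ (M : X.Modules) (hM : PicF.IsInvertible M), clA hM = m • clA hL := by
  obtain ⟨n, rfl | rfl⟩ := Int.eq_nat_or_neg m
  · exact ⟨_, _, (clA_pow hL n).trans (natCast_zsmul _ n).symm⟩
  · refine ⟨CohB1.tensorPow (MiscFlat6.dual L) n,
      AmpleThLib.tensorPow_isInvertible (MiscFlat6.dual_isInvertible hL) n, ?_⟩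
    rw [clA_pow (MiscFlat6.dual_isInvertible hL), clA_dual hL, neg_smul, natCast_zsmul, smul_neg]

/-- Pullback on the Picard group. -/
def pullA (g : Y ⟶ X) : PicA X →+ PicA Y := (Units.map (pull g)).toAdditive

theorem pullA_clA (g : Y ⟶ X) {L : X.Modules} (hL : PicF.IsInvertible L) :
    pullA g (clA hL) = clA (AmpleDevLib.isInvertible_pb g hL) :=
  congrArg Additive.ofMul (Units.ext (pull_cl g L))

theorem pullA_comp (h : Z ⟶ Y) (g : Y ⟶ X) (c : PicA X) : pullA h (pullA g c) = pullA (h ≫ g) c :=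
  congrArg Additive.ofMul (Units.ext (pull_comp h g _))

theorem pullA_id (c : PicA X) : pullA (𝟙 X) c = c := by
  refine congrArg Additive.ofMul (Units.ext ?_)
  show pull (𝟙 X) (Additive.toMul c).val = (Additive.toMul c).val
  induction (Additive.toMul c).val using Quotient.ind with
  | _ M => exact cl_eq_iff.2 ⟨(Scheme.Modules.pullbackId X).app M⟩

section Points

variable {B : Scheme.{u}} {W V A A' : Over B}

/-- `f ↦ f^*L` as classes. -/
def P {L : A.left.Modules} (hL : PicF.IsInvertible L) (f : V ⟶ A) : PicA V.left := pullA f.left (clA hL)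

variable {L : A.left.Modules} (hL : PicF.IsInvertible L)

theorem P_eq (f : V ⟶ A) : P hL f = clA (AmpleDevLib.isInvertible_pb f.left hL) := pullA_clA _ _

theorem P_iso {f g : V ⟶ A} (h : P hL f = P hL g) :
    Nonempty ((Scheme.Modules.pullback f.left).obj L ≅ (Scheme.Modules.pullback g.left).obj L) := by
  rwa [P_eq, P_eq, clA_eq_iff] at h

theorem pullA_P (u : W ⟶ V) (f : V ⟶ A) : pullA u.left (P hL f) = P hL (u ≫ f) := by
  rw [P, pullA_comp, ← Over.comp_left]; rfl

theorem P_id : P hL (𝟙 A) = clA hL := by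
  rw [P, Over.id_left, pullA_id]

theorem P_pullback (g : A' ⟶ A) (f : V ⟶ A') :
    P (AmpleDevLib.isInvertible_pb g.left hL) f = P hL (f ≫ g) := by
  rw [P, ← pullA_clA g.left hL, pullA_comp, ← Over.comp_left]; rfl

variable [GrpObj A]

theorem P_one : P hL (1 : V ⟶ A) = pullA V.hom (pullA η[A].left (clA hL)) := by
  rw [P, pullA_comp, show (1 : V ⟶ A) = toUnit V ≫ η from Hom.one_def, Over.comp_left]
  rfl

variable [IsProper A.hom] [Flat A.hom] [LocallyOfFinitePresentation A.hom] [GeometricallyIntegral A.hom]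

/-- The cube relation. -/
theorem cube (f g h : V ⟶ A) :
    P hL (f * g * h) + P hL f + P hL g + P hL h = P hL (f * g) + P hL (f * h) + P hL (g * h) + P hL 1 := by
  have : GeometricallyConnected A.hom := H0Lib.geometricallyConnected_of_integral A.hom
  exact congrArg Additive.ofMul (Units.ext (cube_rel hL f g h))

theorem zpow_formula (f : V ⟶ A) (n : ℤ) :
    P hL (f ^ n) =
      (n * (n + 1) / 2) • P hL f + (n * (n - 1) / 2) • P hL f⁻¹ + (1 - n * n) • P hL 1 := by
  let a : ℤ → ℤ := fun n => n * (n + 1) / 2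
  have ha : ∀ n, a (n + 1) = a n + (n + 1) := fun n => by
    show (n + 1) * (n + 1 + 1) / 2 = _
    rw [show (n + 1) * (n + 1 + 1) = n * (n + 1) + (n + 1) * 2 by ring,
      Int.add_mul_ediv_right _ _ two_ne_zero]
  have hb : ∀ n : ℤ, n * (n - 1) / 2 = a (n - 1) := fun n => by
    show _ = (n - 1) * (n - 1 + 1) / 2
    rw [show (n - 1) * (n - 1 + 1) = n * (n - 1) by ring]
  let F : ℤ → PicA V.left := fun n =>
    (a n) • P hL f + (a (n - 1)) • P hL f⁻¹ + (1 - n * n) • P hL 1
  suffices H : ∀ n : ℤ, P hL (f ^ n) = F n ∧ P hL (f ^ (n + 1)) = F (n + 1) by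
    rw [hb n]
    exact (H n).1
  have step : ∀ m : ℤ, P hL (f ^ (m + 1)) + P hL (f ^ (m - 1)) + P hL 1 + P hL 1 =
      P hL (f ^ m) + P hL (f ^ m) + P hL f + P hL f⁻¹ := by
    intro m
    have h := cube hL (f ^ m) f f⁻¹
    rw [mul_inv_cancel_right, mul_inv_cancel, ← zpow_add_one,
      show f ^ m * f⁻¹ = f ^ (m - 1) from (zpow_sub_one f m).symm] at h
    exact h.symm
  have hF : ∀ m : ℤ, F (m + 1) + F (m - 1) + P hL 1 + P hL 1 = F m + F m + P hL f + P hL f⁻¹ := by
    intro m
    have e1 : a m = a (m - 1) + m := by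
      have := ha (m - 1)
      simpa using this
    have e2 : a (m - 1) = a (m - 1 - 1) + (m - 1) := by
      have := ha (m - 1 - 1)
      simpa using this
    simp only [F, add_sub_cancel_right]
    rw [ha m]
    match_scalars <;> linarith [e1, e2]
  intro n
  induction n using Int.induction_on with
  | zero =>
    refine ⟨?_, ?_⟩
    · simp [F, a]
    · simp [F, a]
  | succ m ih =>
    refine ⟨ih.2, ?_⟩
    have h1 := step ((m : ℤ) + 1)
    have h2 := hF ((m : ℤ) + 1)
    rw [add_sub_cancel_right] at h1 h2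
    rw [ih.1, ih.2, ← h2] at h1
    exact add_right_cancel (add_right_cancel (add_right_cancel h1))
  | pred m ih =>
    rw [sub_add_cancel]
    refine ⟨?_, ih.1⟩
    have h1 := step (-(m : ℤ))
    have h2 := hF (-(m : ℤ))
    rw [ih.1, ih.2, ← h2] at h1
    exact add_left_cancel (add_right_cancel (add_right_cancel h1))

end Points

end CubeConsLib
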