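import Groth.Agent.S0355
import Mathlib.AlgebraicGeometry.Geometrically.Integral
import Mathlib.AlgebraicGeometry.Geometrically.Connected

/-!
A geometrically reduced and geometrically connected group scheme has geometrically integral fibres.
-/

set_option autoImplicit false
set_option maxRecDepth 8000

noncomputable section

universe u

open CategoryTheory CategoryTheory.Limits MonoidalCategory CartesianMonoidalCategory MonObj AlgebraicGeometry

namespace CubeConsLib

theorem geometricallyIntegral_of_group {S : Scheme.{u}} (X : Over S) [GrpObj X]
    [GeometricallyReduced X.hom] [GeometricallyConnected X.hom] : GeometricallyIntegral X.hom := by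
  refine ⟨fun K _ y Z fst snd h => ?_⟩
  let G := (Over.pullback y).obj X
  letI : GrpObj G := Functor.grpObjObj
  have H : IsPullback (pullback.fst X.hom y) (pullback.snd X.hom y) X.hom y := IsPullback.of_hasPullback _ _
  haveI hred : IsReduced G.left := GeometricallyReduced.geometrically_isReduced y _ _ H
  haveI hconn : ConnectedSpace G.left := GeometricallyConnected.geometrically_connectedSpace y _ _ H
  have h1 := (Groth.Agent.S0355.result K G).1
  rw [PreconnectedSpace.connectedComponent_eq_univ] at h1
  haveI : IrreducibleSpace G.left := irreducibleSpace_def _ |>.mpr h1
  haveI : IsIntegral G.left := isIntegral_of_irreducibleSpace_of_isReduced _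
  haveI : IsIntegral (pullback X.hom y) := ‹IsIntegral G.left›
  haveI : Nonempty Z := ⟨(h.isoIsPullback _ _ H).inv (Nonempty.some inferInstance)⟩
  exact isIntegral_of_isOpenImmersion (h.isoIsPullback _ _ H).hom

end CubeConsLib
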