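import Groth.Agent.CubeConsLib.FieldHom
import Groth.Prelude.Def_ThetaK

/-!
The points of `K(L)`.
-/

set_option autoImplicit false
set_option maxRecDepth 8000
set_option maxHeartbeats 1000000

noncomputable section

universe u

open CategoryTheory MonoidalCategory CartesianMonoidalCategory MonObj AlgebraicGeometry

namespace CubeConsLib

variable {k : Type u} [Field k] {T X : Over (Spec (CommRingCat.of k))} [GrpObj X]
  {L : X.left.Modules} (hL : PicF.IsInvertible L)

/-- `m^*L = p^*L + q^*L` on `X ⊗ T`. -/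
def MumfordZero (x : T ⟶ X) : Prop :=
  P hL (fst X T * (snd X T ≫ x)) = P hL (fst X T) + P hL (snd X T ≫ x)

theorem eq_of_translate (x : T ⟶ X) {M : T.left.Modules} (hM : PicF.IsInvertible M)
    (h : P hL (fst X T * (snd X T ≫ x)) = P hL (fst X T) + pullA (snd X T).left (clA hM)) :
    clA hM = P hL x := by
  have e := congrArg (pullA (lift (1 : T ⟶ X) (𝟙 T)).left) h
  rw [map_add, pullA_P, pullA_P, pullA_comp, ← Over.comp_left, lift_snd, Over.id_left, pullA_id,
    MonObj.comp_mul, lift_fst, lift_snd_assoc, Category.id_comp, _root_.one_mul, P_zero hL, zero_add] at e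
  exact e.symm

/-- Translation form. -/
theorem translate_iff (x : T ⟶ X) {M : T.left.Modules} (hM : PicF.IsInvertible M) :
    Nonempty (CohB1.tensorMod ((Scheme.Modules.pullback (fst X T).left).obj L)
        ((Scheme.Modules.pullback (snd X T).left).obj M) ≅
      (Scheme.Modules.pullback (ThetaGrp.transl X x ≫ fst X T).left).obj L) ↔
      P hL (fst X T * (snd X T ≫ x)) = P hL (fst X T) + pullA (snd X T).left (clA hM) := by
  have h1 : PicF.IsInvertible ((Scheme.Modules.pullback (fst X T).left).obj L) := AmpleDevLib.isInvertible_pb _ hL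
  have h2 : PicF.IsInvertible ((Scheme.Modules.pullback (snd X T).left).obj M) := AmpleDevLib.isInvertible_pb _ hM
  have h3 : PicF.IsInvertible ((Scheme.Modules.pullback (ThetaGrp.transl X x ≫ fst X T).left).obj L) :=
    AmpleDevLib.isInvertible_pb _ hL
  rw [← clA_eq_iff (HilbPolyLib.isInvertible_tensor h1 h2) h3, clA_tensor h1 h2,
    ← pullA_clA (fst X T).left hL,
    ← pullA_clA (snd X T).left hM, ← pullA_clA _ hL]
  rw [ThetaGrp.transl_fst]
  exact eq_comm

theorem exists_translate_iff (x : T ⟶ X) :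
    (∃ M : T.left.Modules, PicF.IsInvertible M ∧
      Nonempty (CohB1.tensorMod ((Scheme.Modules.pullback (fst X T).left).obj L)
          ((Scheme.Modules.pullback (snd X T).left).obj M) ≅
        (Scheme.Modules.pullback (ThetaGrp.transl X x ≫ fst X T).left).obj L)) ↔ MumfordZero hL x := by
  constructor
  · rintro ⟨M, hM, h⟩
    rw [translate_iff hL x hM] at h
    rw [MumfordZero, h, eq_of_translate hL x hM h, pullA_P]
  · intro h
    refine ⟨_, AmpleDevLib.isInvertible_pb x.left hL,
      (translate_iff hL x (AmpleDevLib.isInvertible_pb x.left hL)).2 ?_⟩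
    rw [← pullA_clA x.left hL, show pullA x.left (clA hL) = P hL x from rfl, pullA_P]
    exact h

theorem mumfordTriv_iff (x : T ⟶ X) : ThetaGrp.IsMumfordTriv X L x ↔ MumfordZero hL x := by
  have hm : (X ◁ x) ≫ μ[X] = fst X T * (snd X T ≫ x) := by
    rw [Hom.mul_def]
    congr 1
  have iff₁ : ∀ (M : T.left.Modules) (hM : PicF.IsInvertible M),
      AgPol.IsLambdaSheaf ((X ◁ x) ≫ μ[X]).left (fst X T).left (snd X T ≫ x).left L
        ((Scheme.Modules.pullback (snd X T).left).obj M) ↔
      P hL (fst X T * (snd X T ≫ x)) =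
        pullA (snd X T).left (clA hM) + P hL (fst X T) + P hL (snd X T ≫ x) := by
    intro M hM
    have h1 : PicF.IsInvertible ((Scheme.Modules.pullback (fst X T).left).obj L) := AmpleDevLib.isInvertible_pb _ hL
    have h2 : PicF.IsInvertible ((Scheme.Modules.pullback (snd X T).left).obj M) := AmpleDevLib.isInvertible_pb _ hM
    have h4 : PicF.IsInvertible ((Scheme.Modules.pullback (snd X T ≫ x).left).obj L) :=
      AmpleDevLib.isInvertible_pb _ hL
    have h3 : PicF.IsInvertible ((Scheme.Modules.pullback ((X ◁ x) ≫ μ[X]).left).obj L) :=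
      AmpleDevLib.isInvertible_pb _ hL
    unfold AgPol.IsLambdaSheaf
    rw [← clA_eq_iff (HilbPolyLib.isInvertible_tensor (HilbPolyLib.isInvertible_tensor h2 h1) h4) h3,
      clA_tensor (HilbPolyLib.isInvertible_tensor h2 h1) h4, clA_tensor h2 h1, ← pullA_clA (fst X T).left hL, ← pullA_clA (snd X T).left hM,
      ← pullA_clA (snd X T ≫ x).left hL, ← pullA_clA _ hL, hm]
    exact eq_comm
  constructor
  · rintro ⟨M, hM, h⟩
    rw [iff₁ M hM] at h
    have e := congrArg (pullA (lift (1 : T ⟶ X) (𝟙 T)).left) h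
    rw [map_add, map_add, pullA_P, pullA_P, pullA_P, pullA_comp, ← Over.comp_left, lift_snd, Over.id_left, pullA_id,
      MonObj.comp_mul, lift_fst, lift_snd_assoc, Category.id_comp, _root_.one_mul, P_zero hL, add_zero,
      right_eq_add] at e
    rw [MumfordZero, h, e, map_zero, zero_add]
  · intro h
    refine ⟨_, isInvertible_one T.left, (iff₁ _ (isInvertible_one T.left)).2 ?_⟩
    rw [clA_one, map_zero, zero_add]
    exact h

variable [IsProper X.hom] [GeometricallyIntegral X.hom]

theorem mumfordZero_one : MumfordZero hL (1 : T ⟶ X) := by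
  rw [MumfordZero, MonObj.comp_one, _root_.mul_one, P_zero hL, add_zero]

theorem MumfordZero.mul {x y : T ⟶ X} (hx : MumfordZero hL x) (hy : MumfordZero hL y) :
    MumfordZero hL (x * y) := by
  have h := cube_field hL (fst X T) (snd X T ≫ x) (snd X T ≫ y)
  rw [hx, hy] at h
  rw [MumfordZero, MonObj.comp_mul, ← _root_.mul_assoc]
  refine add_right_cancel (b := P hL (fst X T) + P hL (snd X T ≫ x) + P hL (snd X T ≫ y)) ?_
  calc _ = P hL (fst X T * (snd X T ≫ x) * (snd X T ≫ y)) + P hL (fst X T) + P hL (snd X T ≫ x) +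
        P hL (snd X T ≫ y) := by abel
    _ = _ := by rw [h]; abel

theorem MumfordZero.inv {x : T ⟶ X} (hx : MumfordZero hL x) : MumfordZero hL x⁻¹ := by
  have h := cube_field hL (fst X T) (snd X T ≫ x) (snd X T ≫ x⁻¹)
  rw [hx, GrpObj.comp_inv, mul_inv_cancel, mul_inv_cancel_right, P_zero hL, add_zero] at h
  rw [MumfordZero, GrpObj.comp_inv]
  refine add_right_cancel (b := P hL (fst X T) + P hL (snd X T ≫ x)) ?_
  calc _ = P hL (fst X T) + P hL (snd X T ≫ x) + P hL (fst X T * (snd X T ≫ x)⁻¹) := by abel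
    _ = P hL (fst X T) + P hL (fst X T) + P hL (snd X T ≫ x) + P hL (snd X T ≫ x)⁻¹ := h.symm
    _ = _ := by abel

end CubeConsLib
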