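import Groth.Agent.CubeConsLib.FieldHom
import Groth.Agent.CubeConsLib.Seesaw
import Mathlib.AlgebraicGeometry.AlgClosed.Basic

/-!
Translation-invariant classes.
-/

set_option autoImplicit false
set_option maxRecDepth 8000
set_option maxHeartbeats 1000000

noncomputable section

universe u

open CategoryTheory MonoidalCategory CartesianMonoidalCategory MonObj AlgebraicGeometry

namespace CubeConsLib

variable {K : Type u} [Field K] {V A : Over (Spec (CommRingCat.of K))} [GrpObj A] [IsProper A.hom]
  [GeometricallyIntegral A.hom] {L : A.left.Modules} (hL : PicF.IsInvertible L)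

/-- `m^*L = p^*L + q^*L`. -/
def IsAdditive : Prop := P hL (fst A A * snd A A) = P hL (fst A A) + P hL (snd A A)

omit [IsProper A.hom] [GeometricallyIntegral A.hom] in
theorem IsAdditive.map_mul {hL : PicF.IsInvertible L} (h : IsAdditive hL) (f g : V ⟶ A) :
    P hL (f * g) = P hL f + P hL g := by
  have e := congrArg (pullA (lift f g).left) h
  rwa [map_add, pullA_P, pullA_P, pullA_P, MonObj.comp_mul, lift_fst, lift_snd] at e

theorem isAdditive_of_translationInvariant [IsAlgClosed K]
    (h : ∀ a : 𝟙_ (Over (Spec (CommRingCat.of K))) ⟶ A, P hL (𝟙 A * (toUnit A ≫ a)) = P hL (𝟙 A)) :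
    IsAdditive hL := by
  let p := (snd A A).left
  have : IsProper p := MorphismProperty.pullback_snd (P := @IsProper) A.hom A.hom ‹_›
  have : Flat p := MorphismProperty.pullback_snd (P := @Flat) A.hom A.hom inferInstance
  have : GeometricallyIntegral p := inferInstanceAs (GeometricallyIntegral (Limits.pullback.snd A.hom A.hom))
  have : IsLocallyNoetherian A.left := LocallyOfFiniteType.isLocallyNoetherian A.hom
  have : IsReduced A.left := GeometricallyReduced.isReduced_of_flat_of_isLocallyNoetherian A.hom
  have : JacobsonSpace A.left := jacobsonSpace_of_field A.hom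
  let M₁ := (Scheme.Modules.pullback (fst A A).left).obj L
  let M₂ := (Scheme.Modules.pullback (snd A A).left).obj L
  have h₁ : PicF.IsInvertible M₁ := AmpleDevLib.isInvertible_pb _ hL
  have h₂ : PicF.IsInvertible M₂ := AmpleDevLib.isInvertible_pb _ hL
  have h₀ : PicF.IsInvertible ((Scheme.Modules.pullback (fst A A * snd A A).left).obj L) :=
    AmpleDevLib.isInvertible_pb _ hL
  have h₁₂ := HilbPolyLib.isInvertible_tensor h₁ h₂
  have e₁₂ : clA h₁₂ = P hL (fst A A) + P hL (snd A A) := by rw [clA_tensor h₁ h₂, P_eq hL, P_eq hL]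
  obtain ⟨N, hN, hiso⟩ := seesaw_closedPoints p h₀ h₁₂ fun y hy => by
    let a : 𝟙_ (Over (Spec (CommRingCat.of K))) ⟶ A :=
      Over.homMk (pointOfClosedPoint A.hom y hy) (pointOfClosedPoint_comp A.hom y hy)
    let φ : A ⟶ A ⊗ A := lift (𝟙 A) (toUnit A ≫ a)
    let c := Limits.pullback.fst p (A.left.fromSpecResidueField y) ≫ (fst A A).left
    have ha : A.left.fromSpecResidueField y = (A.left.fromSpecResidueField y ≫ A.hom) ≫ a.left := by
      show _ = _ ≫ pointOfClosedPoint A.hom y hy
      rw [pointOfClosedPoint, ← SpecMap_residueFieldIsoBase_inv A.hom y hy, ← Category.assoc, ← Spec.map_comp,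
        Iso.hom_inv_id, Spec.map_id, Category.id_comp]
    have hfac : Limits.pullback.fst p (A.left.fromSpecResidueField y) = c ≫ φ.left := by
      refine Over.tensorObj_ext _ _ ?_ ?_
      · rw [Category.assoc]
        change c = c ≫ (φ ≫ fst A A).left
        rw [lift_fst, Over.id_left, Category.comp_id]
      · rw [Category.assoc]
        change Limits.pullback.fst p _ ≫ p = c ≫ (φ ≫ snd A A).left
        rw [lift_snd, Over.comp_left, Limits.pullback.condition]
        change _ = c ≫ A.hom ≫ a.left
        rw [← Category.assoc c A.hom]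
        have hc : c ≫ A.hom = Limits.pullback.fst p (A.left.fromSpecResidueField y) ≫ p ≫ A.hom := by
          show (_ ≫ (fst A A).left) ≫ A.hom = _ ≫ (snd A A).left ≫ A.hom
          rw [Category.assoc, Over.w, Over.w]
        rw [hc, Limits.pullback.condition_assoc, Category.assoc]
        exact (congrArg (Limits.pullback.snd p _ ≫ ·) ha).trans (by simp only [Category.assoc])
    have key : pullA φ.left (clA h₀) = pullA φ.left (clA h₁₂) := by
      rw [← P_eq hL, e₁₂, map_add, pullA_P, pullA_P, pullA_P, MonObj.comp_mul, lift_fst, lift_snd, h a,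
        P_const hL, add_zero]
    have key' := congrArg (pullA c) key
    rw [pullA_comp, pullA_comp, ← hfac, pullA_clA _ h₀, pullA_clA _ h₁₂, clA_eq_iff] at key'
    exact key'
  have hN' : PicF.IsInvertible ((Scheme.Modules.pullback p).obj N) := AmpleDevLib.isInvertible_pb _ hN
  rw [← clA_eq_iff h₀ (HilbPolyLib.isInvertible_tensor h₁₂ hN'), clA_tensor h₁₂ hN', e₁₂, ← P_eq hL,
    ← pullA_clA p hN] at hiso
  have e := congrArg (pullA (lift (1 : A ⟶ A) (𝟙 A)).left) hiso
  rw [map_add, map_add, pullA_P, pullA_P, pullA_P, pullA_comp, MonObj.comp_mul, lift_fst, lift_snd,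
    _root_.one_mul, P_zero hL, zero_add, left_eq_add, ← Over.comp_left, lift_snd, Over.id_left, pullA_id] at e
  rw [IsAdditive, hiso, e, map_zero, add_zero]

end CubeConsLib
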