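import Groth.Agent.CubeConsLib.Transpose

/-!
Rigidified classes which are trivial locally on the base, and the Poincaré class.
-/

set_option autoImplicit false
set_option maxRecDepth 8000
set_option maxHeartbeats 1000000

noncomputable section

universe u

open CategoryTheory MonoidalCategory CartesianMonoidalCategory MonObj AlgebraicGeometry
open Limits (pullback)

namespace CubeConsLib

variable {k : Type u} [Field k] {A T : Over (Spec (CommRingCat.of k))} [GrpObj A] [IsProper A.hom]
  [GeometricallyIntegral A.hom]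

theorem eq_zero_of_fppfLocal [LocallyOfFiniteType T.hom] [IsReduced T.left]
    {D : (PicF.XT A.hom T).Modules} (hD : PicF.IsInvertible D)
    (hsec : pullA (PicF.secT A.hom η[A].left (Over.w η[A]) T) (clA hD) = 0)
    {R : Presieve T.left} (hR : R ∈ Scheme.fppfPrecoverage T.left)
    (h : ∀ ⦃U : Scheme.{u}⦄ (u : U ⟶ T.left), R u →
      pullA (PicF.XTmap A.hom (AbDual.ovrHom T u)) (clA hD) = 0) : clA hD = 0 := by
  let q := PicF.XTproj A.hom T
  have : IsProper q := MorphismProperty.pullback_snd (P := @IsProper) A.hom T.hom ‹_›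
  have : Flat q := MorphismProperty.pullback_snd (P := @Flat) A.hom T.hom inferInstance
  have : GeometricallyIntegral q := inferInstanceAs (GeometricallyIntegral (Limits.pullback.snd A.hom T.hom))
  have : IsLocallyNoetherian T.left := LocallyOfFiniteType.isLocallyNoetherian T.hom
  have : JacobsonSpace T.left := jacobsonSpace_of_field T.hom
  obtain ⟨N, hN, hiso⟩ := seesaw_closedPoints q hD (isInvertible_one _) fun y _ => by
    obtain ⟨U, u, x, hu, rfl⟩ := exists_mem_fppf hR y
    let p := q.fiberToSpecResidueField (u x)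
    let ψ := Spec.map (u.residueFieldMap x)
    have hψ : ψ ≫ T.left.fromSpecResidueField (u x) = U.fromSpecResidueField x ≫ u :=
      u.SpecMap_residueFieldMap_fromSpecResidueField x
    have : IsProper p := MorphismProperty.pullback_snd (P := @IsProper) _ _ ‹IsProper q›
    have : GeometricallyIntegral p :=
      inferInstanceAs (GeometricallyIntegral (Limits.pullback.snd q (T.left.fromSpecResidueField (u x))))
    let v : pullback p ψ ⟶ PicF.XT A.hom (AbDual.ovr T u) :=
      Limits.pullback.lift (Limits.pullback.fst p ψ ≫ q.fiberι _ ≫ Limits.pullback.fst A.hom T.hom)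
        (Limits.pullback.snd p ψ ≫ U.fromSpecResidueField x) (by
        simp only [Category.assoc, Limits.pullback.condition, Over.mk_hom]
        rw [← Category.assoc (q.fiberι _), q.fiber_fac, ← Category.assoc (Limits.pullback.fst p ψ),
          ← Category.assoc (Limits.pullback.fst p ψ), Limits.pullback.condition, Category.assoc, Category.assoc,
          ← Category.assoc ψ, hψ, Category.assoc])
    have hv : v ≫ PicF.XTmap A.hom (AbDual.ovrHom T u) = Limits.pullback.fst p ψ ≫ q.fiberι _ := by
      apply Limits.pullback.hom_ext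
      · simp only [v, Category.assoc, XTmap_fst]
        exact Limits.pullback.lift_fst _ _ _
      · simp only [v, Category.assoc, XTmap_snd, Limits.pullback.lift_snd_assoc, Over.homMk_left]
        rw [show q.fiberι _ ≫ Limits.pullback.snd A.hom T.hom = p ≫ T.left.fromSpecResidueField _ from q.fiber_fac _,
          Limits.pullback.condition_assoc, hψ]
    have e := congrArg (pullA v) (h u hu)
    rw [map_zero, pullA_comp, hv, ← pullA_comp, pullA_clA _ hD] at e
    have e' := trivial_of_field_ext (K := T.left.residueField (u x)) (Ω := U.residueField x) _ p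
      (AmpleDevLib.isInvertible_pb (q.fiberι (u x)) hD) e
    rw [← clA_one, clA_eq_iff] at e'
    exact ⟨e'.some ≪≫ (KFlatLib.pullUnitIso _).symm⟩
  have hN' := AmpleDevLib.isInvertible_pb q hN
  rw [← clA_eq_iff hD (HilbPolyLib.isInvertible_tensor (isInvertible_one _) hN'), clA_tensor (isInvertible_one _) hN',
    clA_one, zero_add, ← pullA_clA q hN] at hiso
  rw [hiso, pullA_comp] at hsec
  rw [show PicF.secT A.hom η[A].left (Over.w η[A]) T ≫ q = 𝟙 _ from Limits.pullback.lift_snd _ _ _, pullA_id] at hsec
  rw [hiso, hsec, map_zero]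

variable {At : Over (Spec (CommRingCat.of k))} [GrpObj At]
  {φ : ∀ T : Over (Spec (CommRingCat.of k)), PicF.Cl (PicF.XT A.hom T) → (T ⟶ At)}
  (hA : AbDual.IsDualAV Scheme.fppfPrecoverage A At φ)

include hA

/-- Rigidified classes with the same point of the dual are equal over a reduced base of finite type. -/
theorem eq_of_phi_eq [LocallyOfFiniteType T.hom] [IsReduced T.left]
    {L M : (PicF.XT A.hom T).Modules} (hL : PicF.IsInvertible L) (hM : PicF.IsInvertible M)
    (zL : AbDual.IsPicZeroCl A.hom T (PicF.cl L)) (zM : AbDual.IsPicZeroCl A.hom T (PicF.cl M))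
    (sL : pullA (PicF.secT A.hom η[A].left (Over.w η[A]) T) (clA hL) = 0)
    (sM : pullA (PicF.secT A.hom η[A].left (Over.w η[A]) T) (clA hM) = 0)
    (e : φ T (PicF.cl L) = φ T (PicF.cl M)) : clA hL = clA hM := by
  obtain ⟨R, hR, hloc⟩ := hA.relPic.locallyInjective T _ _ zL zM e
  have hd := HilbPolyLib.isInvertible_tensor hL (MiscFlat6.dual_isInvertible hM)
  have hc : clA hd = clA hL - clA hM := by
    rw [clA_tensor hL (MiscFlat6.dual_isInvertible hM), clA_dual hM, sub_eq_add_neg]
  have h0 := eq_zero_of_fppfLocal hd (by rw [hc, map_sub, sL, sM, sub_zero]) hR fun U u hu => by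
    rw [hc, map_sub, sub_eq_zero, pullA_clA _ hL, pullA_clA _ hM, clA_eq_iff]
    exact cl_eq_iff.1 (congrArg toI (hloc u hu))
  rwa [hc, sub_eq_zero] at h0

omit hA
variable [LocallyOfFinitePresentation A.hom]

theorem pullA_bcMap_mul {L : (PicF.XT A.hom T).Modules} (hL : PicF.IsInvertible L)
    (hz : AbDual.IsPicZeroCl A.hom T (PicF.cl L))
    (hs : pullA (PicF.secT A.hom η[A].left (Over.w η[A]) T) (clA hL) = 0)
    {W : Over (Spec (CommRingCat.of k))} (f g : W ⟶ A) :
    pullA (AbDual.bcMap (f * g) T) (clA hL) =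
      pullA (AbDual.bcMap f T) (clA hL) + pullA (AbDual.bcMap g T) (clA hL) := by
  obtain ⟨L', e, hL', hLa⟩ := hz
  have ec : clA hL' = clA hL := (clA_eq_iff _ _).2 (cl_eq_iff.1 (congrArg toI e))
  have h1 : pullA (AbDual.bcMap (1 : W ⟶ A) T) (clA hL) = 0 := by
    rw [bcMap_one, ← pullA_comp, hs, map_zero]
  have hd := pullA_defect A (lift f g) T hL'
  rw [defect_eq_zero_of_algEquivZero A T hL' hLa, map_zero, lift_fst, lift_snd, ec, h1, add_zero, sub_sub,
    eq_comm, sub_eq_zero] at hd
  exact hd

theorem pullA_bcMap_pow {L : (PicF.XT A.hom T).Modules} (hL : PicF.IsInvertible L)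
    (hz : AbDual.IsPicZeroCl A.hom T (PicF.cl L))
    (hs : pullA (PicF.secT A.hom η[A].left (Over.w η[A]) T) (clA hL) = 0) (n : ℕ) :
    pullA (AbDual.bcMap (𝟙 A ^ n) T) (clA hL) = n • clA hL := by
  induction n with
  | zero => rw [pow_zero, zero_smul, bcMap_one, ← pullA_comp, hs, map_zero]
  | succ n ih => rw [pow_succ, pullA_bcMap_mul hL hz hs, ih, bcMap_id, pullA_id, succ_nsmul]

theorem secT_bcMap (f : A ⟶ A) (hf : η[A] ≫ f = η[A]) :
    PicF.secT A.hom η[A].left (Over.w η[A]) T ≫ AbDual.bcMap f T = PicF.secT A.hom η[A].left (Over.w η[A]) T := by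
  apply Limits.pullback.hom_ext
  · rw [Category.assoc, bcMap_fst]
    simp only [PicF.secT, Limits.pullback.lift_fst, Limits.pullback.lift_fst_assoc, Category.assoc]
    rw [← Over.comp_left, hf]
  · rw [Category.assoc, bcMap_snd]

end CubeConsLib
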