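import Groth.Agent.CubeConsLib.Invariant
import Groth.Agent.CubeConsLib.Defect2
import Groth.Agent.AVAmpleLib.MulFinite
import Groth.Agent.AVRigidLib.Core
import Mathlib.FieldTheory.IsAlgClosed.AlgebraicClosure

/-!
The Mumford class is torsion-free.
-/

set_option autoImplicit false
set_option maxRecDepth 8000
set_option maxHeartbeats 1000000
set_option linter.style.haveILetI false
set_option linter.unusedSectionVars false

noncomputable section

universe u

open CategoryTheory MonoidalCategory CartesianMonoidalCategory MonObj AlgebraicGeometry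

namespace CubeConsLib

variable {K : Type u} [Field K] {V W A : Over (Spec (CommRingCat.of K))} [GrpObj A]
  {L : A.left.Modules} (hL : PicF.IsInvertible L)

/-- `(f + g)^*L - f^*L - g^*L` -/
def lam (f g : V ⟶ A) : PicA V.left := P hL (f * g) - P hL f - P hL g

theorem pullA_lam (u : W ⟶ V) (f g : V ⟶ A) : pullA u.left (lam hL f g) = lam hL (u ≫ f) (u ≫ g) := by
  rw [lam, lam, map_sub, map_sub, pullA_P, pullA_P, pullA_P, MonObj.comp_mul]

variable [IsProper A.hom] [GeometricallyIntegral A.hom]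

theorem lam_mul_left (f g h : V ⟶ A) : lam hL (f * g) h = lam hL f h + lam hL g h := by
  have e := cube_field hL f g h
  simp only [lam]
  rw [eq_sub_of_add_eq (eq_sub_of_add_eq (eq_sub_of_add_eq e))]
  abel

theorem lam_one_left (h : V ⟶ A) : lam hL 1 h = 0 := by
  rw [lam, _root_.one_mul, P_zero hL]; abel

theorem lam_comm (f g : V ⟶ A) : lam hL f g = lam hL g f := by
  haveI : IsCommMonObj A := isCommMonObj_field
  letI : CommGroup (V ⟶ A) := Hom.commGroup
  rw [lam, lam, mul_comm f g]
  abel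

theorem lam_inv_left (f h : V ⟶ A) : lam hL f⁻¹ h = -lam hL f h := by
  rw [eq_neg_iff_add_eq_zero, ← lam_mul_left, inv_mul_cancel, lam_one_left]

theorem lam_inv_inv (f g : V ⟶ A) : lam hL f⁻¹ g⁻¹ = lam hL f g := by
  rw [lam_inv_left, lam_comm, lam_inv_left, neg_neg, lam_comm]

theorem lam_pow_left (f h : V ⟶ A) : ∀ n : ℕ, lam hL (f ^ n) h = n • lam hL f h
  | 0 => by rw [pow_zero, lam_one_left, zero_smul]
  | n + 1 => by rw [pow_succ, lam_mul_left, lam_pow_left f h n, succ_nsmul]

theorem isAdditive_of_torsion_closed [IsAlgClosed K] {n : ℕ} (hn : 1 ≤ n)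
    (h : n • lam hL (fst A A) (snd A A) = 0) : IsAdditive hL := by
  refine isAdditive_of_translationInvariant hL fun a => ?_
  obtain ⟨b, hb⟩ : ∃ b : 𝟙_ (Over (Spec (CommRingCat.of K))) ⟶ A, b ^ n = a := by
    have hsurj := AVAmpleLib.surjective_zpow A (n := (n : ℤ)) (by omega)
    rw [zpow_natCast] at hsurj
    haveI : JacobsonSpace A.left := LocallyOfFiniteType.jacobsonSpace A.hom
    obtain ⟨w, hw, hwc⟩ := nonempty_inter_closedPoints (Z := ⇑(𝟙 A ^ n).left ⁻¹' {AVAmpleLib.pt a})
      (by obtain ⟨x, hx⟩ := (𝟙 A ^ n).left.surjective (AVAmpleLib.pt a); exact ⟨x, hx⟩)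
      (((AVRigidLib.isClosed_pt a)).preimage (𝟙 A ^ n).left.continuous).isLocallyClosed
    obtain ⟨b, rfl⟩ := AVAmpleLib.exists_pt_eq w hwc
    refine ⟨b, AVRigidLib.ext_pt ?_⟩
    rw [Set.mem_preimage, Set.mem_singleton_iff, ← AVAmpleLib.pt_comp, MonObj.comp_pow, Category.comp_id] at hw
    exact hw
  have e : lam hL (𝟙 A) (toUnit A ≫ a) = 0 := by
    rw [← hb, MonObj.comp_pow, lam_comm, lam_pow_left]
    have := congrArg (pullA (lift (toUnit A ≫ b) (𝟙 A)).left) h
    rwa [map_nsmul, map_zero, pullA_lam, lift_fst, lift_snd] at this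
  rw [lam, P_const hL, sub_zero, sub_eq_zero] at e
  exact e

theorem isAdditive_of_torsion {n : ℕ} (hn : 1 ≤ n) (h : n • lam hL (fst A A) (snd A A) = 0) :
    IsAdditive hL := by
  let Ω := AlgebraicClosure K
  let φ : CommRingCat.of K ⟶ CommRingCat.of Ω := CommRingCat.ofHom (algebraMap K Ω)
  let g := Spec.map φ
  let F := Over.pullback g
  let A' := F.obj A
  letI : GrpObj A' := Functor.grpObjObj
  haveI : IsProper A'.hom := MorphismProperty.pullback_snd (P := @IsProper) _ _ ‹IsProper A.hom›
  haveI : GeometricallyIntegral A'.hom :=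
    inferInstanceAs (GeometricallyIntegral (Limits.pullback.snd A.hom g))
  have hL' : PicF.IsInvertible ((Scheme.Modules.pullback (Limits.pullback.fst A.hom g)).obj L) :=
    AmpleDevLib.isInvertible_pb _ hL
  have key : ∀ (X : Over (Spec (CommRingCat.of K))) (f : X ⟶ A),
      P (A := A') hL' (F.map f) = pullA (Limits.pullback.fst X.hom g) (P hL f) := by
    intro X f
    rw [P, P, ← pullA_clA _ hL, pullA_comp, pullA_comp]
    congr 2
    exact Limits.pullback.lift_fst _ _ _
  have hF : ∀ (X : Over (Spec (CommRingCat.of K))) (f f' : X ⟶ A),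
      lam (A := A') hL' (F.map f) (F.map f') = pullA (Limits.pullback.fst X.hom g) (lam hL f f') := by
    intro X f f'
    rw [lam, lam, ← Functor.map_mul, key, key, key, map_sub, map_sub]
  have hadd : IsAdditive (A := A') hL' := by
    refine isAdditive_of_torsion_closed hL' hn ?_
    let c : A' ⊗ A' ⟶ F.obj (A ⊗ A) := Functor.LaxMonoidal.μ F A A
    have e1 : c ≫ F.map (fst A A) = fst A' A' := Functor.Monoidal.μ_fst F A A
    have e2 : c ≫ F.map (snd A A) = snd A' A' := Functor.Monoidal.μ_snd F A A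
    rw [← e1, ← e2, ← pullA_lam, hF, ← map_nsmul, ← map_nsmul, h, map_zero, map_zero]
  haveI : LocallyOfFinitePresentation A.hom := LocallyOfFinitePresentation.iff_locallyOfFiniteType.2 inferInstance
  haveI : GeometricallyIntegral (A ⊗ A).hom := geometricallyIntegral_prod A.hom A.hom
  haveI : IsProper (A ⊗ A).hom := inferInstanceAs (IsProper (Limits.pullback.fst A.hom A.hom ≫ A.hom))
  let p₁ := fst A A
  let p₂ := snd A A
  have h₀ : PicF.IsInvertible ((Scheme.Modules.pullback (p₁ * p₂).left).obj L) := AmpleDevLib.isInvertible_pb _ hL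
  have h₁ : PicF.IsInvertible ((Scheme.Modules.pullback p₁.left).obj L) := AmpleDevLib.isInvertible_pb _ hL
  have h₂ : PicF.IsInvertible ((Scheme.Modules.pullback p₂.left).obj L) := AmpleDevLib.isInvertible_pb _ hL
  have hD := HilbPolyLib.isInvertible_tensor
    (HilbPolyLib.isInvertible_tensor h₀ (MiscFlat6.dual_isInvertible h₁)) (MiscFlat6.dual_isInvertible h₂)
  have eD : clA hD = lam hL p₁ p₂ := by
    rw [lam, P_eq, P_eq, P_eq, sub_eq_add_neg, sub_eq_add_neg, ← clA_dual, ← clA_dual, ← clA_tensor, ← clA_tensor]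
  have e0 := trivial_of_field_ext φ (A ⊗ A).hom hD (by
    rw [eD, ← hF]
    rw [lam, ← Functor.map_mul, Functor.map_mul, hadd.map_mul]
    abel)
  rw [eD, lam, sub_sub, sub_eq_zero] at e0
  exact e0

end CubeConsLib
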