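import Groth.Agent.CubeLib.Triple
import Groth.Agent.CubeLib.Field
import Groth.Agent.CubeConsLib.IsoCls
import Groth.Agent.CubeConsLib.GeomInt
import Mathlib.CategoryTheory.Monoidal.Cartesian.Over

/-!
The cube theorem for a triple product over a base, and the cubical structure of an invertible module
on an abelian scheme.
-/

set_option autoImplicit false
set_option maxRecDepth 8000
set_option maxHeartbeats 1000000

noncomputable section

universe u

open CategoryTheory CategoryTheory.Limits AlgebraicGeometry TopologicalSpace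

namespace CubeConsLib

variable {S X Y Z : Scheme.{u}}

/-- Locally trivial over the base and trivial along a section. -/
theorem trivial_of_opens {P : Scheme.{u}} (p : P ⟶ X) (hp : CubeLib.UnivO p) (u : X ⟶ P) (hu : u ≫ p = 𝟙 X)
    {L : P.Modules} (h₁ : Nonempty ((Scheme.Modules.pullback u).obj L ≅ Coh.structureModule X))
    (h : ∀ x, ∃ W : X.Opens, x ∈ W ∧
      Nonempty ((Scheme.Modules.pullback (p ⁻¹ᵁ W).ι).obj L ≅ Coh.structureModule (p ⁻¹ᵁ W).toScheme)) :
    Nonempty (L ≅ Coh.structureModule P) := by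
  choose W hxW hW using h
  choose γ hγ using fun x => CubeLib.exists_genOn_of_restrict (M := L) (U := p ⁻¹ᵁ W x)
    ⟨(Scheme.Modules.restrictFunctorIsoPullback _).app L ≪≫ (hW x).some⟩
  exact CubeLib.trivial_of_local_of_section p hp u hu h₁ W (fun x => ⟨x, hxW x⟩) γ hγ

/-- **The cube theorem for a triple product over a base**. -/
theorem trivial_triple (pX : X ⟶ S) (pY : Y ⟶ S) (pZ : Z ⟶ S)
    [Flat pX] [IsProper pX] [LocallyOfFinitePresentation pX] [GeometricallyIntegral pX]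
    [Flat pY] [IsProper pY] [LocallyOfFinitePresentation pY] [GeometricallyIntegral pY]
    [GeometricallyConnected pZ]
    (x : S ⟶ X) (hx : x ≫ pX = 𝟙 S) (y : S ⟶ Y) (hy : y ≫ pY = 𝟙 S) (z₀ : S ⟶ Z) (hz₀ : z₀ ≫ pZ = 𝟙 S)
    {L : (pullback (pullback.fst pX pY ≫ pX) pZ).Modules} (hL : PicF.IsInvertible L)
    {A B C : Scheme.{u}} (m₁ : A ⟶ pullback (pullback.fst pX pY ≫ pX) pZ)
    (m₂ : B ⟶ pullback (pullback.fst pX pY ≫ pX) pZ) (m₃ : C ⟶ pullback (pullback.fst pX pY ≫ pX) pZ)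
    (h₁ : Nonempty ((Scheme.Modules.pullback m₁).obj L ≅ Coh.structureModule A))
    (h₂ : Nonempty ((Scheme.Modules.pullback m₂).obj L ≅ Coh.structureModule B))
    (h₃ : Nonempty ((Scheme.Modules.pullback m₃).obj L ≅ Coh.structureModule C))
    (c₁ : pullback pY pZ ⟶ A)
    (e₁a : c₁ ≫ m₁ ≫ pullback.fst _ _ ≫ pullback.fst pX pY = pullback.fst pY pZ ≫ pY ≫ x)
    (e₁b : c₁ ≫ m₁ ≫ pullback.fst _ _ ≫ pullback.snd pX pY = pullback.fst pY pZ)
    (e₁c : c₁ ≫ m₁ ≫ pullback.snd _ _ = pullback.snd pY pZ)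
    (c₂ : pullback pX pZ ⟶ B)
    (e₂a : c₂ ≫ m₂ ≫ pullback.fst _ _ ≫ pullback.fst pX pY = pullback.fst pX pZ)
    (e₂b : c₂ ≫ m₂ ≫ pullback.fst _ _ ≫ pullback.snd pX pY = pullback.fst pX pZ ≫ pX ≫ y)
    (e₂c : c₂ ≫ m₂ ≫ pullback.snd _ _ = pullback.snd pX pZ)
    (c₃ : pullback pX pY ⟶ C)
    (e₃a : c₃ ≫ m₃ ≫ pullback.fst _ _ = 𝟙 _)
    (e₃c : c₃ ≫ m₃ ≫ pullback.snd _ _ = (pullback.fst pX pY ≫ pX) ≫ z₀) :
    Nonempty (L ≅ Coh.structureModule _) := by
  let p := pullback.fst pX pY ≫ pX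
  let q := pullback.snd p pZ
  let n : pullback pX pY ⟶ pullback p pZ := c₃ ≫ m₃
  let s : S ⟶ pullback pX pY := pullback.lift x y (by rw [hx, hy])
  have hs : s ≫ p = 𝟙 S := by rw [pullback.lift_fst_assoc, hx]
  let u : Z ⟶ pullback p pZ := pullback.lift (pZ ≫ s) (𝟙 Z)
    (by rw [Category.assoc, hs, Category.comp_id, Category.id_comp])
  have hq : CubeLib.UnivO q :=
    (CubeLib.univO_fst_comp pX pY (CubeLib.univO_of_geometricallyIntegral pX)
      (CubeLib.univO_of_geometricallyIntegral pY)).of_isPullback (IsPullback.of_hasPullback p pZ)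
  refine trivial_of_opens q hq u (pullback.lift_snd _ _ _) ?_ fun z => ?_
  · have e : 𝟙 Z ≫ u = (pullback.lift (pZ ≫ y) (𝟙 Z) (by
        rw [Category.assoc, hy, Category.comp_id, Category.id_comp]) ≫ c₁) ≫ m₁ := by
      rw [Category.id_comp]
      apply pullback.hom_ext
      · apply pullback.hom_ext
        · simp only [Category.assoc]
          rw [e₁a, pullback.lift_fst_assoc, pullback.lift_fst_assoc, Category.assoc, Category.assoc,
            reassoc_of% hy, pullback.lift_fst]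
        · simp only [Category.assoc]
          rw [e₁b, pullback.lift_fst, pullback.lift_fst_assoc, Category.assoc, pullback.lift_snd]
      · simp only [Category.assoc]
        rw [e₁c, pullback.lift_snd, pullback.lift_snd]
    obtain ⟨t⟩ := CubeLib.trivial_of_comp_eq e h₁
    exact ⟨((Scheme.Modules.pullbackId _).app _).symm ≪≫ t⟩
  · obtain ⟨W, hW, hzW, hW'⟩ := CubeLib.exists_clopen_triple pX pY pZ x hx y hy hL m₁ m₂ h₁ h₂
      c₁ e₁a e₁b e₁c c₂ e₂a e₂b e₂c (z₀ (pZ z)) (by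
        have e : q.fiberι (z₀ (pZ z)) = (q.fiberι (z₀ (pZ z)) ≫ pullback.fst p pZ ≫ c₃) ≫ m₃ := by
          apply pullback.hom_ext
          · simp only [Category.assoc]
            rw [e₃a, Category.comp_id]
          · simp only [Category.assoc]
            rw [e₃c]
            change _ = q.fiberι _ ≫ pullback.fst p pZ ≫ p ≫ z₀
            rw [pullback.condition_assoc (f := p) (g := pZ)]
            change q.fiberι _ ≫ q = q.fiberι _ ≫ q ≫ pZ ≫ z₀
            rw [← Category.assoc (q.fiberι _) q, q.fiber_fac, Category.assoc,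
              ← CubeLib.fromSpecResidueField_section pZ z₀ hz₀ (pZ z)]
        obtain ⟨t⟩ := CubeLib.trivial_pullback (g := q.fiberι (z₀ (pZ z)) ≫ pullback.fst p pZ ≫ c₃) h₃
        exact ⟨(Scheme.Modules.pullbackCongr e).app L ≪≫ ((Scheme.Modules.pullbackComp _ m₃).app L).symm ≪≫ t⟩)
    refine ⟨W, ?_, hW'⟩
    refine (pZ.isConnected_preimage_singleton (pZ z)).isPreconnected.subset_isClopen ⟨hW, W.2⟩
      ⟨z₀ (pZ z), ?_, hzW⟩ (Set.mem_singleton (pZ z))
    show pZ (z₀ (pZ z)) = pZ z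
    rw [← Scheme.Hom.comp_apply, hz₀]
    rfl

section Group

open MonoidalCategory CartesianMonoidalCategory MonObj

theorem pull_pullS {B : Scheme.{u}} {W V A : Over B} (a : W ⟶ V) (b : V ⟶ A) (c : IsoCls A.left) :
    pull a.left (pull b.left c) = pull (a ≫ b).left c := by
  rw [pull_comp, Over.comp_left]

variable {B : Scheme.{u}} {A V : Over B} [GrpObj A] [IsProper A.hom] [Flat A.hom]
  [LocallyOfFinitePresentation A.hom] [GeometricallyIntegral A.hom] [GeometricallyConnected A.hom]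

/-- **The cubical structure**: the relation for three morphisms. -/
theorem cube_rel {L : A.left.Modules} (hL : PicF.IsInvertible L) (f g h : V ⟶ A) :
    pull (f * g * h).left (cl L) * pull f.left (cl L) * pull g.left (cl L) * pull h.left (cl L) =
      pull (f * g).left (cl L) * pull (f * h).left (cl L) * pull (g * h).left (cl L) *
        pull (1 : V ⟶ A).left (cl L) := by
  let p1 : (A ⊗ A) ⊗ A ⟶ A := fst _ _ ≫ fst _ _
  let p2 : (A ⊗ A) ⊗ A ⟶ A := fst _ _ ≫ snd _ _
  let p3 : (A ⊗ A) ⊗ A ⟶ A := snd _ _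
  let P := fun m : (A ⊗ A) ⊗ A ⟶ A => (Scheme.Modules.pullback m.left).obj L
  have hP : ∀ m, PicF.IsInvertible (P m) := fun m => AmpleDevLib.isInvertible_pb m.left hL
  let M := CohB1.tensorMod (CohB1.tensorMod (CohB1.tensorMod (P (p1 * p2 * p3)) (P p1)) (P p2)) (P p3)
  let N := CohB1.tensorMod (CohB1.tensorMod (CohB1.tensorMod (P (p1 * p2)) (P (p1 * p3))) (P (p2 * p3))) (P 1)
  have hM : PicF.IsInvertible M := HilbPolyLib.isInvertible_tensor
    (HilbPolyLib.isInvertible_tensor (HilbPolyLib.isInvertible_tensor (hP _) (hP _)) (hP _)) (hP _)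
  have hN : PicF.IsInvertible N := HilbPolyLib.isInvertible_tensor
    (HilbPolyLib.isInvertible_tensor (HilbPolyLib.isInvertible_tensor (hP _) (hP _)) (hP _)) (hP _)
  let D := CohB1.tensorMod M (MiscFlat6.dual N)
  have hNd : cl N * cl (MiscFlat6.dual N) = 1 := cl_eq_one_iff.2 (MiscFlat6.nonempty_dualIso hN)
  have key : ∀ {W : Over B} (j : W ⟶ (A ⊗ A) ⊗ A),
      pull j.left (cl M) = pull j.left (cl N) →
        Nonempty ((Scheme.Modules.pullback j.left).obj D ≅ Coh.structureModule W.left) := fun j e => by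
    rw [← cl_eq_one_iff, ← pull_cl, cl_tensor, map_mul, e, ← map_mul, hNd, map_one]
  have expand : ∀ {W : Over B} (j : W ⟶ (A ⊗ A) ⊗ A) (a b c : W ⟶ A),
      j ≫ p1 = a → j ≫ p2 = b → j ≫ p3 = c →
      pull j.left (cl M) = pull (a * b * c).left (cl L) * pull a.left (cl L) * pull b.left (cl L) * pull c.left (cl L) ∧
        pull j.left (cl N) = pull (a * b).left (cl L) * pull (a * c).left (cl L) * pull (b * c).left (cl L) *
          pull (1 : W ⟶ A).left (cl L) := by
    rintro W j a b c rfl rfl rfl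
    simp only [M, N, P, cl_tensor, map_mul, ← pull_cl, pull_pullS, MonObj.comp_mul, MonObj.comp_one, and_self]
  let j₁ : A ⊗ A ⟶ (A ⊗ A) ⊗ A := lift (lift 1 (fst A A)) (snd A A)
  let j₂ : A ⊗ A ⟶ (A ⊗ A) ⊗ A := lift (lift (fst A A) 1) (snd A A)
  let j₃ : A ⊗ A ⟶ (A ⊗ A) ⊗ A := lift (𝟙 (A ⊗ A)) 1
  have hD₁ := key j₁ (by
    obtain ⟨e1, e2⟩ := expand j₁ 1 (fst A A) (snd A A) (by simp [j₁, p1]) (by simp [j₁, p2]) (by simp [j₁, p3])
    rw [e1, e2]
    simp only [_root_.one_mul, _root_.mul_one]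
    ac_rfl)
  have hD₂ := key j₂ (by
    obtain ⟨e1, e2⟩ := expand j₂ (fst A A) 1 (snd A A) (by simp [j₂, p1]) (by simp [j₂, p2]) (by simp [j₂, p3])
    rw [e1, e2]
    simp only [_root_.one_mul, _root_.mul_one]
    ac_rfl)
  have hD₃ := key j₃ (by
    obtain ⟨e1, e2⟩ := expand j₃ (fst A A) (snd A A) 1 (by simp [j₃, p1]) (by simp [j₃, p2]) (by simp [j₃, p3])
    rw [e1, e2]
    simp only [_root_.one_mul, _root_.mul_one])
  have h1 : (1 : A ⊗ A ⟶ A).left = (pullback.fst A.hom A.hom ≫ A.hom) ≫ η[A].left := by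
    rw [show (1 : A ⊗ A ⟶ A) = toUnit _ ≫ η from Hom.one_def, Over.comp_left]
    rfl
  have hη : η[A].left ≫ A.hom = 𝟙 B := Over.w η[A]
  obtain ⟨e⟩ := trivial_triple A.hom A.hom A.hom η[A].left hη η[A].left hη η[A].left hη
    (L := D) (isInvertible_tensor_dual hM hN) j₁.left j₂.left j₃.left hD₁ hD₂ hD₃
    (𝟙 _)
    ((Category.id_comp _).trans ((congrArg Over.Hom.left (show j₁ ≫ fst _ _ ≫ fst _ _ = 1 by simp [j₁])).trans
      (h1.trans (Category.assoc _ _ _))))
    ((Category.id_comp _).trans (congrArg Over.Hom.left (show j₁ ≫ fst _ _ ≫ snd _ _ = fst A A by simp [j₁])))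
    ((Category.id_comp _).trans (congrArg Over.Hom.left (show j₁ ≫ snd _ _ = snd A A by simp [j₁])))
    (𝟙 _)
    ((Category.id_comp _).trans (congrArg Over.Hom.left (show j₂ ≫ fst _ _ ≫ fst _ _ = fst A A by simp [j₂])))
    ((Category.id_comp _).trans ((congrArg Over.Hom.left (show j₂ ≫ fst _ _ ≫ snd _ _ = 1 by simp [j₂])).trans
      (h1.trans (Category.assoc _ _ _))))
    ((Category.id_comp _).trans (congrArg Over.Hom.left (show j₂ ≫ snd _ _ = snd A A by simp [j₂])))
    (𝟙 _)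
    ((Category.id_comp _).trans (congrArg Over.Hom.left (show j₃ ≫ fst _ _ = 𝟙 (A ⊗ A) by simp [j₃])))
    ((Category.id_comp _).trans ((congrArg Over.Hom.left (show j₃ ≫ snd _ _ = 1 by simp [j₃])).trans h1))
  have hD : cl D = 1 := cl_eq_one_iff.2 ⟨e⟩
  have hMN : cl M = cl N := by
    calc cl M = cl M * (cl N * cl (MiscFlat6.dual N)) := by rw [hNd, _root_.mul_one]
      _ = cl N * (cl M * cl (MiscFlat6.dual N)) := mul_left_comm _ _ _
      _ = cl N := by rw [← cl_tensor, hD, _root_.mul_one]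
  obtain ⟨e1, e2⟩ := expand (lift (lift f g) h) f g h (by simp [p1]) (by simp [p2]) (by simp [p3])
  rw [← e1, ← e2, hMN]

end Group

end CubeConsLib
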