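import Groth.Agent.CubeConsLib.Transpose

/-!
Separatedness of a scheme representing the fppf Picard functor.
-/

set_option autoImplicit false
set_option maxRecDepth 8000
set_option maxHeartbeats 1000000

noncomputable section

universe u

open CategoryTheory AlgebraicGeometry
open Limits (pullback)

namespace CubeConsLib

variable {X S : Scheme.{u}} (f : X ⟶ S) [IsProper f] [Flat f] [LocallyOfFinitePresentation f]
  [GeometricallyIntegral f]

/-- The locus where a line bundle is trivial on the fibres is closed. -/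
theorem isClosed_trivial_fibre {L : X.Modules} (hL : PicF.IsInvertible L) :
    IsClosed {x : S | Nonempty (CohIII.fiberMod f L x ≅ Coh.structureModule (f.fiber x))} := by
  let M := MiscFlat6.dual L
  have hM : PicF.IsInvertible M := MiscFlat6.dual_isInvertible hL
  obtain ⟨e⟩ := MiscFlat6.nonempty_dualIso hL
  obtain ⟨_, hfpL, hflL⟩ := CohCmpLib.rank_one_hyps f ((CohCmpLib.invertible_iff_rank_one L).1 hL)
  obtain ⟨_, hfpM, hflM⟩ := CohCmpLib.rank_one_hyps f ((CohCmpLib.invertible_iff_rank_one M).1 hM)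
  have heq : {x : S | Nonempty (CohIII.fiberMod f L x ≅ Coh.structureModule (f.fiber x))} =
      {y | Nontrivial (CohIII.fiberH f L y 0)} ∩ {y | Nontrivial (CohIII.fiberH f M y 0)} := by
    refine Set.ext fun y => ⟨fun hy => ⟨CohCmpLib.nontrivial_of_trivial f hy,
      CohCmpLib.nontrivial_of_trivial f ?_⟩, fun hy => CohCmpLib.trivial_of_sections f hL e y hy.1 hy.2⟩
    obtain ⟨t⟩ := hy
    obtain ⟨e'⟩ := CohCmpLib.nonempty_pullback_inverse (f.fiberι y) e
    exact ⟨(HilbPolyLib.unitLeft _).symm ≪≫ HilbPolyLib.congrLeft t.symm _ ≪≫ e'⟩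
  rw [heq]
  exact (CohCmpLib.isClosed_nontrivial_fiberH f hfpL hflL 0).inter
    (CohCmpLib.isClosed_nontrivial_fiberH f hfpM hflM 0)

omit [IsProper f] [Flat f] [LocallyOfFinitePresentation f] [GeometricallyIntegral f] in
/-- A point lies in the diagonal iff its two projections agree. -/
theorem mem_range_diagonal_iff {P B : Scheme.{u}} (p : P ⟶ B) {U : Scheme.{u}}
    (u : U ⟶ pullback p p) (x : U) :
    u x ∈ Set.range (Limits.pullback.diagonal p) ↔
      U.fromSpecResidueField x ≫ u ≫ Limits.pullback.fst p p = U.fromSpecResidueField x ≫ u ≫ Limits.pullback.snd p p := by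
  constructor
  · rintro ⟨d, hd⟩
    let Δ := Limits.pullback.diagonal p
    have : Surjective (Spec.map (Δ.residueFieldMap d)) :=
      ⟨fun y => ⟨IsLocalRing.closedPoint _, Subsingleton.elim (α := PrimeSpectrum _) _ _⟩⟩
    have : Epi (Spec.map (Δ.residueFieldMap d)) := Flat.epi_of_flat_of_surjective _
    have key : (pullback p p).fromSpecResidueField (Δ d) ≫ Limits.pullback.fst p p =
        (pullback p p).fromSpecResidueField (Δ d) ≫ Limits.pullback.snd p p := by
      rw [← cancel_epi (Spec.map (Δ.residueFieldMap d)), Scheme.Hom.SpecMap_residueFieldMap_fromSpecResidueField_assoc,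
        Scheme.Hom.SpecMap_residueFieldMap_fromSpecResidueField_assoc, Limits.pullback.diagonal_fst,
        Limits.pullback.diagonal_snd]
    have key' : (pullback p p).fromSpecResidueField (u x) ≫ Limits.pullback.fst p p =
        (pullback p p).fromSpecResidueField (u x) ≫ Limits.pullback.snd p p := by rw [← hd]; exact key
    have := congrArg (Spec.map (u.residueFieldMap x) ≫ ·) key'
    simpa only [Scheme.Hom.SpecMap_residueFieldMap_fromSpecResidueField_assoc] using this
  · intro h
    refine ⟨(U.fromSpecResidueField x ≫ u ≫ Limits.pullback.fst p p) (IsLocalRing.closedPoint _), ?_⟩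
    rw [← Scheme.Hom.comp_apply]
    have e : (U.fromSpecResidueField x ≫ u ≫ Limits.pullback.fst p p) ≫ Limits.pullback.diagonal p =
        U.fromSpecResidueField x ≫ u := by
      apply Limits.pullback.hom_ext
      · simp only [Category.assoc, Limits.pullback.diagonal_fst, Category.comp_id]
      · simp only [Category.assoc, Limits.pullback.diagonal_snd, Category.comp_id, h]
    rw [e, Scheme.Hom.comp_apply, Scheme.fromSpecResidueField_apply]

variable {P : Over S} {φ : ∀ T : Over S, PicF.Cl (PicF.XT f T) → (T ⟶ P)}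
  (hP : AbDual.IsRelPicK Scheme.fppfPrecoverage f P φ)

include hP

theorem phi_eq_iff (T : Over S) {L₁ L₂ : (PicF.XT f T).Modules} (h₁ : PicF.IsInvertible L₁)
    (h₂ : PicF.IsInvertible L₂) (x : T.left) :
    T.left.fromSpecResidueField x ≫ (φ T (PicF.cl L₁)).left =
        T.left.fromSpecResidueField x ≫ (φ T (PicF.cl L₂)).left ↔
      pullA ((PicF.XTproj f T).fiberι x) (clA h₁ - clA h₂) = 0 := by
  let q := PicF.XTproj f T
  let Tx : Over S := Over.mk (T.left.fromSpecResidueField x ≫ T.hom)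
  let j : Tx ⟶ T := Over.homMk (T.left.fromSpecResidueField x) rfl
  let κ : q.fiber x ⟶ PicF.XT f Tx :=
    Limits.pullback.lift (q.fiberι x ≫ Limits.pullback.fst f T.hom) (q.fiberToSpecResidueField x) (by
      rw [Category.assoc, Limits.pullback.condition, ← Category.assoc]
      exact (congrArg (· ≫ T.hom) (q.fiber_fac x)).trans (Category.assoc _ _ _))
  have hκ : κ ≫ PicF.XTmap f j = q.fiberι x := by
    apply Limits.pullback.hom_ext
    · simp only [Category.assoc, XTmap_fst]
      exact Limits.pullback.lift_fst _ _ _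
    · simp only [κ, Category.assoc, XTmap_snd, Limits.pullback.lift_snd_assoc]
      exact (q.fiber_fac x).symm
  let κ' : PicF.XT f Tx ⟶ q.fiber x :=
    Limits.pullback.lift (PicF.XTmap f j) (Limits.pullback.snd f Tx.hom) (XTmap_snd f j)
  have hκ' : κ' ≫ q.fiberι x = PicF.XTmap f j := Limits.pullback.lift_fst _ _ _
  have hl : ∀ {L : (PicF.XT f T).Modules}, PicF.IsInvertible L →
      (j ≫ φ T (PicF.cl L)) = φ Tx (PicF.pullCl (PicF.XTmap f j) (PicF.cl L)) := fun hL =>
    (hP.natural T Tx j _ ⟨_, rfl, hL⟩).symm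
  have hiff : T.left.fromSpecResidueField x ≫ (φ T (PicF.cl L₁)).left =
      T.left.fromSpecResidueField x ≫ (φ T (PicF.cl L₂)).left ↔
      φ Tx (PicF.pullCl (PicF.XTmap f j) (PicF.cl L₁)) = φ Tx (PicF.pullCl (PicF.XTmap f j) (PicF.cl L₂)) := by
    rw [← hl h₁, ← hl h₂]
    exact ⟨fun h => Over.OverMorphism.ext h, fun h => congrArg Over.Hom.left h⟩
  rw [hiff]
  constructor
  · intro h
    have g₁ := AmpleDevLib.isInvertible_pb (PicF.XTmap f j) h₁
    have g₂ := AmpleDevLib.isInvertible_pb (PicF.XTmap f j) h₂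
    obtain ⟨R, hR, hloc⟩ := hP.locallyInjective Tx _ _ ⟨_, rfl, g₁⟩ ⟨_, rfl, g₂⟩ h
    obtain ⟨U, u, y, hu, -⟩ := exists_mem_fppf hR (IsLocalRing.closedPoint _)
    have e : pullA (PicF.XTmap f (AbDual.ovrHom Tx u)) (clA g₁ - clA g₂) = 0 := by
      rw [map_sub, sub_eq_zero, pullA_clA _ g₁, pullA_clA _ g₂, clA_eq_iff]
      exact cl_eq_iff.1 (congrArg toI (hloc u hu))
    let φ' := Spec.preimage (U.fromSpecResidueField y ≫ u)
    have hφ' : Spec.map φ' = U.fromSpecResidueField y ≫ u := Spec.map_preimage _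
    let p := Limits.pullback.snd f Tx.hom
    have : IsProper p := MorphismProperty.pullback_snd (P := @IsProper) _ _ ‹IsProper f›
    have : GeometricallyIntegral p := inferInstanceAs (GeometricallyIntegral (Limits.pullback.snd f Tx.hom))
    let v : pullback p (Spec.map φ') ⟶ PicF.XT f (AbDual.ovr Tx u) :=
      Limits.pullback.lift (Limits.pullback.fst p (Spec.map φ') ≫ Limits.pullback.fst f Tx.hom)
        (Limits.pullback.snd p (Spec.map φ') ≫ U.fromSpecResidueField y) (by
          rw [Category.assoc, Limits.pullback.condition, Limits.pullback.condition_assoc, Category.assoc, hφ']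
          exact congrArg (_ ≫ ·) (Category.assoc _ _ _))
    have hv : v ≫ PicF.XTmap f (AbDual.ovrHom Tx u) = Limits.pullback.fst p (Spec.map φ') := by
      apply Limits.pullback.hom_ext
      · simp only [v, Category.assoc, XTmap_fst]
        exact Limits.pullback.lift_fst _ _ _
      · simp only [v, Category.assoc, XTmap_snd, Limits.pullback.lift_snd_assoc, Over.homMk_left]
        rw [← hφ', ← Limits.pullback.condition]
    have e' := congrArg (pullA v) e
    rw [map_zero, pullA_comp, hv] at e'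
    have g : PicF.IsInvertible _ := HilbPolyLib.isInvertible_tensor g₁ (MiscFlat6.dual_isInvertible g₂)
    have hg : clA g = clA g₁ - clA g₂ := by
      rw [clA_tensor g₁ (MiscFlat6.dual_isInvertible g₂), clA_dual g₂, sub_eq_add_neg]
    rw [← hg] at e'
    have e'' := trivial_of_field_ext (K := T.left.residueField x) (Ω := U.residueField y) φ' p g e'
    rw [hg, ← pullA_clA _ h₁, ← pullA_clA _ h₂, ← map_sub] at e''
    rw [← hκ, ← pullA_comp, e'', map_zero]
  · intro h
    have e := congrArg (pullA κ') h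
    rw [map_zero, pullA_comp, hκ', map_sub, sub_eq_zero, pullA_clA _ h₁, pullA_clA _ h₂, clA_eq_iff] at e
    exact congrArg (φ Tx) (Quot.sound e)

theorem isSeparated_of_isRelPicK : IsSeparated P.hom := by
  let Δ := Limits.pullback.diagonal P.hom
  let T : Over S := Over.mk (Limits.pullback.fst P.hom P.hom ≫ P.hom)
  let g₁ : T ⟶ P := Over.homMk (Limits.pullback.fst P.hom P.hom) rfl
  let g₂ : T ⟶ P := Over.homMk (Limits.pullback.snd P.hom P.hom) Limits.pullback.condition.symm
  obtain ⟨R₁, hR₁, hl₁⟩ := hP.locallySurjective T g₁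
  obtain ⟨R₂, hR₂, hl₂⟩ := hP.locallySurjective T g₂
  have hclosed : IsClosed (Set.range Δ) := by
    rw [← isOpen_compl_iff, isOpen_iff_forall_mem_open]
    intro z hz
    obtain ⟨U₁, u₁, x₁, hu₁, hx₁⟩ := exists_mem_fppf hR₁ z
    obtain ⟨U₂, u₂, x₂, hu₂, hx₂⟩ := exists_mem_fppf hR₂ z
    obtain ⟨hf₁, hp₁⟩ : Flat u₁ ∧ LocallyOfFinitePresentation u₁ := hR₁.2 hu₁
    obtain ⟨hf₂, hp₂⟩ : Flat u₂ ∧ LocallyOfFinitePresentation u₂ := hR₂.2 hu₂
    obtain ⟨w, hw₁, -⟩ := Scheme.Pullback.exists_preimage_pullback x₁ x₂ (hx₁.trans hx₂.symm)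
    let v : pullback u₁ u₂ ⟶ pullback P.hom P.hom := Limits.pullback.fst u₁ u₂ ≫ u₁
    have hvz : v w = z := by
      show (Limits.pullback.fst u₁ u₂ ≫ u₁) w = z
      rw [Scheme.Hom.comp_apply, hw₁, hx₁]
    let V : Over S := AbDual.ovr T v
    let a₁ : V ⟶ AbDual.ovr T u₁ := Over.homMk (Limits.pullback.fst u₁ u₂) (Category.assoc _ _ _).symm
    let a₂ : V ⟶ AbDual.ovr T u₂ := Over.homMk (Limits.pullback.snd u₁ u₂) (by
      show _ ≫ u₂ ≫ T.hom = v ≫ T.hom
      rw [← Category.assoc, ← Limits.pullback.condition])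
    obtain ⟨c₁, ⟨L₁, rfl, hL₁⟩, e₁⟩ := hl₁ u₁ hu₁
    obtain ⟨c₂, ⟨L₂, rfl, hL₂⟩, e₂⟩ := hl₂ u₂ hu₂
    have k₁ := AmpleDevLib.isInvertible_pb (PicF.XTmap f a₁) hL₁
    have k₂ := AmpleDevLib.isInvertible_pb (PicF.XTmap f a₂) hL₂
    have f₁ : φ V (PicF.pullCl (PicF.XTmap f a₁) (PicF.cl L₁)) = AbDual.ovrHom T v ≫ g₁ := by
      rw [hP.natural _ V a₁ _ ⟨_, rfl, hL₁⟩, e₁, ← Category.assoc]
      congr 1
    have f₂ : φ V (PicF.pullCl (PicF.XTmap f a₂) (PicF.cl L₂)) = AbDual.ovrHom T v ≫ g₂ := by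
      rw [hP.natural _ V a₂ _ ⟨_, rfl, hL₂⟩, e₂, ← Category.assoc]
      congr 1
      exact Over.OverMorphism.ext Limits.pullback.condition.symm
    let q := PicF.XTproj f V
    have : IsProper q := MorphismProperty.pullback_snd (P := @IsProper) _ _ ‹IsProper f›
    have : Flat q := MorphismProperty.pullback_snd (P := @Flat) _ _ ‹Flat f›
    have : LocallyOfFinitePresentation q :=
      MorphismProperty.pullback_snd (P := @LocallyOfFinitePresentation) _ _ ‹LocallyOfFinitePresentation f›
    have : GeometricallyIntegral q := inferInstanceAs (GeometricallyIntegral (Limits.pullback.snd f V.hom))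
    have kd : PicF.IsInvertible _ := HilbPolyLib.isInvertible_tensor k₁ (MiscFlat6.dual_isInvertible k₂)
    have hkd : clA kd = clA k₁ - clA k₂ := by
      rw [clA_tensor k₁ (MiscFlat6.dual_isInvertible k₂), clA_dual k₂, sub_eq_add_neg]
    have hlocus : ∀ y : V.left, v y ∈ Set.range Δ ↔
        y ∈ {y | Nonempty (CohIII.fiberMod q _ y ≅ Coh.structureModule (q.fiber y))} := fun y => by
      refine Iff.trans ?_ ((Iff.of_eq (congrArg (fun d => pullA (q.fiberι y) d = 0) hkd.symm)).trans (by
        rw [pullA_clA _ kd, ← clA_one, clA_eq_iff]; exact Iff.rfl))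
      refine Iff.trans (mem_range_diagonal_iff P.hom v y) ?_
      rw [← phi_eq_iff f hP V k₁ k₂ y]
      show _ ↔ V.left.fromSpecResidueField y ≫ (φ V (PicF.pullCl (PicF.XTmap f a₁) (PicF.cl L₁))).left =
        V.left.fromSpecResidueField y ≫ (φ V (PicF.pullCl (PicF.XTmap f a₂) (PicF.cl L₂))).left
      rw [f₁, f₂]
      exact Iff.rfl
    let O := {y : V.left | ¬ Nonempty (CohIII.fiberMod q (CohB1.tensorMod (KFlatLib.pb (PicF.XTmap f a₁) L₁)
      (MiscFlat6.dual (KFlatLib.pb (PicF.XTmap f a₂) L₂))) y ≅ Coh.structureModule (q.fiber y))}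
    refine ⟨v '' O, ?_, ?_, ⟨w, fun h => hz (hvz ▸ (hlocus w).2 h), hvz⟩⟩
    · rintro _ ⟨y, hy, rfl⟩ hmem
      exact hy ((hlocus y).1 hmem)
    · have : UniversallyOpen v := inferInstance
      exact v.isOpenMap _ (isClosed_trivial_fibre q kd).isOpen_compl
  exact ⟨IsClosedImmersion.of_isPreimmersion Δ hclosed⟩

end CubeConsLib
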