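import Groth.Agent.CubeConsLib.Hom
import Groth.Agent.S19476
import Groth.Prelude.Def_AbDual

/-!
The defect of additivity of a family of invertible modules on an abelian scheme.
-/

set_option autoImplicit false
set_option maxRecDepth 8000
set_option maxHeartbeats 1000000

noncomputable section

universe u

open CategoryTheory MonoidalCategory CartesianMonoidalCategory MonObj AlgebraicGeometry

namespace CubeConsLib

section bc

variable {S : Scheme.{u}} {A B C : Over S}

@[reassoc]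
theorem bcMap_fst (f : A ⟶ B) (T : Over S) :
    AbDual.bcMap f T ≫ Limits.pullback.fst B.hom T.hom = Limits.pullback.fst A.hom T.hom ≫ f.left :=
  Limits.pullback.lift_fst _ _ _

theorem bcMap_snd (f : A ⟶ B) (T : Over S) :
    AbDual.bcMap f T ≫ Limits.pullback.snd B.hom T.hom = Limits.pullback.snd A.hom T.hom :=
  (Limits.pullback.lift_snd _ _ _).trans (Category.comp_id _)

theorem bcMap_comp (f : A ⟶ B) (g : B ⟶ C) (T : Over S) :
    AbDual.bcMap f T ≫ AbDual.bcMap g T = AbDual.bcMap (f ≫ g) T := by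
  apply Limits.pullback.hom_ext
  · rw [Category.assoc, bcMap_fst, ← Category.assoc, bcMap_fst, bcMap_fst, Category.assoc, Over.comp_left]
  · rw [Category.assoc, bcMap_snd, bcMap_snd, bcMap_snd]

theorem bcMap_natural (f : A ⟶ B) {T T' : Over S} (h : T' ⟶ T) :
    PicF.XTmap A.hom h ≫ AbDual.bcMap f T = AbDual.bcMap f T' ≫ PicF.XTmap B.hom h := by
  apply Limits.pullback.hom_ext
  · rw [Category.assoc, Category.assoc, bcMap_fst, PicF.XTmap, PicF.XTmap, Limits.pullback.lift_fst,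
      Limits.pullback.lift_fst_assoc, ← Category.assoc (AbDual.bcMap f T'), bcMap_fst]
    simp
  · rw [Category.assoc, Category.assoc, bcMap_snd, PicF.XTmap, PicF.XTmap, Limits.pullback.lift_snd,
      Limits.pullback.lift_snd, ← Category.assoc (AbDual.bcMap f T'), bcMap_snd]

theorem eq_bcMap {A B C : Over S} (j : A ⟶ B ⊗ C) (T : Over S)
    (g : PicF.XT A.hom T ⟶ Limits.pullback (Limits.pullback.fst B.hom C.hom ≫ B.hom) T.hom)
    (h₁ : g ≫ Limits.pullback.fst _ _ ≫ Limits.pullback.fst B.hom C.hom =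
      Limits.pullback.fst A.hom T.hom ≫ (j ≫ fst B C).left)
    (h₂ : g ≫ Limits.pullback.fst _ _ ≫ Limits.pullback.snd B.hom C.hom =
      Limits.pullback.fst A.hom T.hom ≫ (j ≫ snd B C).left)
    (h₃ : g ≫ Limits.pullback.snd _ _ = Limits.pullback.snd A.hom T.hom) : g = AbDual.bcMap j T := by
  apply Limits.pullback.hom_ext
  · refine Eq.trans ?_ (bcMap_fst j T).symm
    refine Limits.pullback.hom_ext ?_ ?_
    · rw [Category.assoc, Category.assoc]
      exact h₁
    · rw [Category.assoc, Category.assoc]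
      exact h₂
  · exact h₃.trans (bcMap_snd j T).symm

end bc

variable {S : Scheme.{u}} (X : Over S) [GrpObj X]

/-- `m^*L - p^*L - q^*L + e^*L` on `(X ⊗ X)_T`. -/
def defect (T : Over S) {L : (PicF.XT X.hom T).Modules} (hL : PicF.IsInvertible L) :
    PicA (PicF.XT (X ⊗ X).hom T) :=
  pullA (AbDual.bcMap (fst X X * snd X X) T) (clA hL) - pullA (AbDual.bcMap (fst X X) T) (clA hL) -
    pullA (AbDual.bcMap (snd X X) T) (clA hL) + pullA (AbDual.bcMap (1 : X ⊗ X ⟶ X) T) (clA hL)

theorem pullA_defect {W : Over S} (j : W ⟶ X ⊗ X) (T : Over S) {L : (PicF.XT X.hom T).Modules}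
    (hL : PicF.IsInvertible L) :
    pullA (AbDual.bcMap j T) (defect X T hL) =
      pullA (AbDual.bcMap ((j ≫ fst X X) * (j ≫ snd X X)) T) (clA hL) -
        pullA (AbDual.bcMap (j ≫ fst X X) T) (clA hL) - pullA (AbDual.bcMap (j ≫ snd X X) T) (clA hL) +
          pullA (AbDual.bcMap (1 : W ⟶ X) T) (clA hL) := by
  simp only [defect, map_add, map_sub, pullA_comp, bcMap_comp, MonObj.comp_mul, MonObj.comp_one]

theorem defect_natural {T T' : Over S} (h : T' ⟶ T) {L : (PicF.XT X.hom T).Modules}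
    (hL : PicF.IsInvertible L) {L' : (PicF.XT X.hom T').Modules} (hL' : PicF.IsInvertible L')
    (e : pullA (PicF.XTmap X.hom h) (clA hL) = clA hL') :
    pullA (PicF.XTmap (X ⊗ X).hom h) (defect X T hL) = defect X T' hL' := by
  simp only [defect, map_add, map_sub, pullA_comp, bcMap_natural, ← e]

theorem exists_rep (T : Over S) {L : (PicF.XT X.hom T).Modules} (hL : PicF.IsInvertible L) :
    ∃ (D : (PicF.XT (X ⊗ X).hom T).Modules) (hD : PicF.IsInvertible D), clA hD = defect X T hL := by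
  have h : ∀ f : X ⊗ X ⟶ X, PicF.IsInvertible ((Scheme.Modules.pullback (AbDual.bcMap f T)).obj L) :=
    fun f => AmpleDevLib.isInvertible_pb _ hL
  have hd := fun f => MiscFlat6.dual_isInvertible (h f)
  refine ⟨_, HilbPolyLib.isInvertible_tensor
    (HilbPolyLib.isInvertible_tensor (HilbPolyLib.isInvertible_tensor (h (fst X X * snd X X)) (hd (fst X X)))
      (hd (snd X X))) (h 1), ?_⟩
  rw [clA_tensor (HilbPolyLib.isInvertible_tensor (HilbPolyLib.isInvertible_tensor (h _) (hd _)) (hd _)) (h 1),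
    clA_tensor (HilbPolyLib.isInvertible_tensor (h _) (hd _)) (hd _), clA_tensor (h _) (hd _), clA_dual (h _),
    clA_dual (h _)]
  have hh : ∀ f, clA (h f) = pullA (AbDual.bcMap f T) (clA hL) := fun f => (pullA_clA _ hL).symm
  rw [hh, hh, hh, hh, defect]
  abel

variable [IsProper X.hom] [Flat X.hom] [LocallyOfFinitePresentation X.hom] [GeometricallyIntegral X.hom]

theorem exists_clopen_defect (T : Over S) {L : (PicF.XT X.hom T).Modules} (hL : PicF.IsInvertible L) (z : T.left)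
    (h : pullA ((PicF.XTproj (X ⊗ X).hom T).fiberι z) (defect X T hL) = 0) :
    ∃ W : T.left.Opens, IsClosed (W : Set T.left) ∧ z ∈ W ∧
      pullA ((PicF.XTproj (X ⊗ X).hom T) ⁻¹ᵁ W).ι (defect X T hL) = 0 := by
  obtain ⟨D, hD, hc⟩ := exists_rep X T hL
  rw [← hc, pullA_clA, ← clA_one, clA_eq_iff] at h
  let f := PicF.XTproj X.hom T
  let q := PicF.XTproj (X ⊗ X).hom T
  have : IsProper f := MorphismProperty.pullback_snd (P := @IsProper) X.hom T.hom ‹_›
  have : Flat f := MorphismProperty.pullback_snd (P := @Flat) X.hom T.hom ‹_›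
  have : LocallyOfFinitePresentation f :=
    MorphismProperty.pullback_snd (P := @LocallyOfFinitePresentation) X.hom T.hom ‹_›
  have : GeometricallyIntegral f :=
    inferInstanceAs (GeometricallyIntegral (Limits.pullback.snd X.hom T.hom))
  have H := CubeLib.isPullback_prod X.hom X.hom T.hom (by
    rw [Category.assoc, Category.assoc, Limits.pullback.condition,
      ← Category.assoc, ← Category.assoc]
    exact congrArg (· ≫ T.hom) Limits.pullback.condition)
  let Φ := H.isoPullback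
  have hΦ1 : Φ.hom ≫ Limits.pullback.fst _ _ = _ := H.isoPullback_hom_fst
  have hΦ2 : Φ.hom ≫ Limits.pullback.snd _ _ = Limits.pullback.fst f f ≫ f := H.isoPullback_hom_snd
  let σ : T.left ⟶ PicF.XT X.hom T := PicF.secT X.hom η[X].left (Over.w η[X]) T
  have hσ : σ ≫ f = 𝟙 T.left := Limits.pullback.lift_snd _ _ _
  let u : PicF.XT X.hom T ⟶ Limits.pullback f f :=
    Limits.pullback.lift (𝟙 _) (f ≫ σ) (by rw [Category.assoc, hσ, Category.comp_id, Category.id_comp])
  let v : PicF.XT X.hom T ⟶ Limits.pullback f f :=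
    Limits.pullback.lift (f ≫ σ) (𝟙 _) (by rw [Category.assoc, hσ, Category.comp_id, Category.id_comp])
  have h1l : (1 : X ⟶ X).left = X.hom ≫ η[X].left := by
    rw [show (1 : X ⟶ X) = toUnit _ ≫ η from Hom.one_def, Over.comp_left]
    rfl
  have hfσ : f ≫ σ ≫ Limits.pullback.fst X.hom T.hom =
      Limits.pullback.fst X.hom T.hom ≫ (1 : X ⟶ X).left := by
    rw [h1l, Limits.pullback.condition_assoc]
    simp only [σ, PicF.secT, Limits.pullback.lift_fst]
    rfl
  have hu : u ≫ Φ.hom = AbDual.bcMap (lift (𝟙 X) 1) T := by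
    refine eq_bcMap _ T _ ?_ ?_ ?_
    · rw [Category.assoc, ← Category.assoc Φ.hom, hΦ1, Limits.pullback.lift_fst,
        Limits.pullback.lift_fst_assoc, lift_fst, Over.id_left, Category.id_comp]
      exact (Category.comp_id _).symm
    · rw [Category.assoc, ← Category.assoc Φ.hom, hΦ1, Limits.pullback.lift_snd,
        Limits.pullback.lift_snd_assoc, lift_snd, Category.assoc, hfσ]
    · rw [Category.assoc, hΦ2, Limits.pullback.lift_fst_assoc, Category.id_comp]
  have hv : v ≫ Φ.hom = AbDual.bcMap (lift 1 (𝟙 X)) T := by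
    refine eq_bcMap _ T _ ?_ ?_ ?_
    · rw [Category.assoc, ← Category.assoc Φ.hom, hΦ1, Limits.pullback.lift_fst,
        Limits.pullback.lift_fst_assoc, lift_fst, Category.assoc, hfσ]
    · rw [Category.assoc, ← Category.assoc Φ.hom, hΦ1, Limits.pullback.lift_snd,
        Limits.pullback.lift_snd_assoc, lift_snd, Over.id_left, Category.id_comp]
      exact (Category.comp_id _).symm
    · rw [Category.assoc, hΦ2, Limits.pullback.lift_fst_assoc, Category.assoc, hσ, Category.comp_id]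
  have slice : ∀ (j : X ⟶ X ⊗ X), (j ≫ fst X X = 𝟙 X ∧ j ≫ snd X X = 1 ∨ j ≫ fst X X = 1 ∧ j ≫ snd X X = 𝟙 X) →
      Nonempty ((Scheme.Modules.pullback (AbDual.bcMap j T)).obj D ≅ Coh.structureModule _) := fun j hj => by
    rw [← clA_eq_iff (AmpleDevLib.isInvertible_pb _ hD) (isInvertible_one _), clA_one, ← pullA_clA _ hD, hc, pullA_defect]
    rcases hj with ⟨e₁, e₂⟩ | ⟨e₁, e₂⟩
    · rw [e₁, e₂, _root_.mul_one]; abel
    · rw [e₁, e₂, _root_.one_mul]; abel
  have Hid : CategoryTheory.IsPullback Φ.hom (Limits.pullback.fst f f ≫ f) q (𝟙 T.left) :=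
    IsPullback.of_horiz_isIso ⟨hΦ2.trans (Category.comp_id _).symm⟩
  obtain ⟨W, hW, hzW, hW'⟩ := CubeLib.exists_clopen f f σ hσ σ hσ (AmpleDevLib.isInvertible_pb Φ.hom hD) u
    (Limits.pullback.lift_fst _ _ _) (Limits.pullback.lift_snd _ _ _) v (Limits.pullback.lift_fst _ _ _)
    (Limits.pullback.lift_snd _ _ _)
    (CubeLib.trivial_of_comp_eq (hu.trans (Category.id_comp _).symm)
      (slice _ (Or.inl ⟨lift_fst _ _, lift_snd _ _⟩)))
    (CubeLib.trivial_of_comp_eq (hv.trans (Category.id_comp _).symm)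
      (slice _ (Or.inr ⟨lift_fst _ _, lift_snd _ _⟩)))
    z (CubeLib.fibre_trivial_of_isPullback Hid z h)
  refine ⟨W, hW, hzW, ?_⟩
  have hr : Set.range ((q ⁻¹ᵁ W).ι ≫ Φ.inv) ⊆ Set.range ((Limits.pullback.fst f f ≫ f) ⁻¹ᵁ W).ι := by
    rw [Scheme.Opens.range_ι]
    rintro _ ⟨a, rfl⟩
    show (Limits.pullback.fst f f ≫ f) (((q ⁻¹ᵁ W).ι ≫ Φ.inv) a) ∈ W
    rw [← Scheme.Hom.comp_apply, ← hΦ2, Category.assoc, Iso.inv_hom_id_assoc]
    exact a.2
  have hl := IsOpenImmersion.lift_fac ((Limits.pullback.fst f f ≫ f) ⁻¹ᵁ W).ι ((q ⁻¹ᵁ W).ι ≫ Φ.inv) hr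
  have e : (q ⁻¹ᵁ W).ι = IsOpenImmersion.lift ((Limits.pullback.fst f f ≫ f) ⁻¹ᵁ W).ι ((q ⁻¹ᵁ W).ι ≫ Φ.inv) hr ≫
      ((Limits.pullback.fst f f ≫ f) ⁻¹ᵁ W).ι ≫ Φ.hom := by
    rw [← Category.assoc, hl, Category.assoc, Iso.inv_hom_id, Category.comp_id]
  rw [← clA_eq_iff (AmpleDevLib.isInvertible_pb _ (AmpleDevLib.isInvertible_pb Φ.hom hD)) (isInvertible_one _),
    clA_one, ← pullA_clA _ (AmpleDevLib.isInvertible_pb Φ.hom hD), ← pullA_clA Φ.hom hD, hc, pullA_comp] at hW'
  rw [e, ← pullA_comp, hW', map_zero]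

theorem defect_eq_zero_of_connected (T : Over S) [ConnectedSpace T.left] {L : (PicF.XT X.hom T).Modules}
    (hL : PicF.IsInvertible L) (z : T.left)
    (h : pullA ((PicF.XTproj (X ⊗ X).hom T).fiberι z) (defect X T hL) = 0) : defect X T hL = 0 := by
  obtain ⟨W, hW, hzW, hW'⟩ := exists_clopen_defect X T hL z h
  have hWu : W = ⊤ := TopologicalSpace.Opens.ext (IsClopen.eq_univ ⟨hW, W.2⟩ ⟨z, hzW⟩)
  subst hWu
  obtain ⟨D, hD, hc⟩ := exists_rep X T hL
  rw [← hc] at hW' ⊢
  rw [pullA_clA, ← clA_one, clA_eq_iff] at hW'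
  rw [← clA_one, clA_eq_iff]
  exact CubeLib.trivial_of_restrict_top (W := (PicF.XTproj (X ⊗ X).hom T) ⁻¹ᵁ ⊤) rfl
    ⟨(Scheme.Modules.restrictFunctorIsoPullback _).app D ≪≫ hW'.some⟩

theorem defect_eq_zero_of_fibres (T : Over S) {L : (PicF.XT X.hom T).Modules} (hL : PicF.IsInvertible L)
    (h : ∀ z, pullA ((PicF.XTproj (X ⊗ X).hom T).fiberι z) (defect X T hL) = 0) : defect X T hL = 0 := by
  obtain ⟨D, hD, hc⟩ := exists_rep X T hL
  rw [← hc, ← clA_one, clA_eq_iff]
  have : IsProper (X ⊗ X).hom := by dsimp; infer_instance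
  have hu : CubeLib.UnivO (PicF.XTproj (X ⊗ X).hom T) :=
    (CubeLib.univO_fst_comp X.hom X.hom (CubeLib.univO_of_geometricallyIntegral X.hom)
      (CubeLib.univO_of_geometricallyIntegral X.hom)).of_isPullback
        (IsPullback.of_hasPullback (X ⊗ X).hom T.hom)
  let e : 𝟙_ (Over S) ⟶ X ⊗ X := lift η[X] η[X]
  let j : T.left ⟶ PicF.XT (X ⊗ X).hom T := PicF.secT (X ⊗ X).hom e.left (Over.w e) T
  refine trivial_of_opens (PicF.XTproj (X ⊗ X).hom T) hu j (Limits.pullback.lift_snd _ _ _) ?_ fun z => ?_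
  · have he : ∀ f : X ⊗ X ⟶ X, e ≫ f = η[X] →
        j ≫ AbDual.bcMap f T = PicF.secT X.hom η[X].left (Over.w η[X]) T := fun f hf => by
      apply Limits.pullback.hom_ext
      · rw [Category.assoc, bcMap_fst]
        simp only [j, PicF.secT, Limits.pullback.lift_fst_assoc, Limits.pullback.lift_fst, Category.assoc,
          ← Over.comp_left, hf]
      · rw [Category.assoc, bcMap_snd]
        simp only [j, PicF.secT, Limits.pullback.lift_snd]
    rw [← clA_eq_iff (AmpleDevLib.isInvertible_pb j hD) (isInvertible_one _), clA_one, ← pullA_clA j hD, hc]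
    have h1 : e ≫ (1 : X ⊗ X ⟶ X) = η[X] := by
      rw [MonObj.comp_one, show (1 : 𝟙_ (Over S) ⟶ X) = toUnit _ ≫ η from Hom.one_def, toUnit_unit, Category.id_comp]
    simp only [defect, map_add, map_sub, pullA_comp]
    rw [he _ (by rw [MonObj.comp_mul, lift_fst, lift_snd, MonObj.one_eq_one, _root_.one_mul]),
      he _ (lift_fst _ _), he _ (lift_snd _ _), he _ h1]
    abel
  · obtain ⟨W, -, hzW, hW'⟩ := exists_clopen_defect X T hL z (h z)
    rw [← hc, pullA_clA, ← clA_one, clA_eq_iff] at hW'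
    exact ⟨W, hzW, hW'⟩

end CubeConsLib
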